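import Mathlib
import Cfsg.Agent.B43.Coh
import Cfsg.Agent.Gr.Am.Z
import Cfsg.Agent.Gr6B.P

/-! Definitions for the vanishing of the second cohomology of the 4371-dimensional module. -/

set_option autoImplicit false

namespace Cfsg.Agent.B43

open Subgroup Matrix Cfsg.Agent.Spor Cfsg.Agent.Spor.Leech Cfsg.Agent.Gr Cfsg.Agent.Gr6B

section Lattice

variable (F : Type*) [Field F]

/-- Coordinates of a lattice vector in `F`. -/
def cF : Λ →+ (Pt → F) where
  toFun v i := ((v : Vec) i : F)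
  map_zero' := funext fun _ => by simp
  map_add' _ _ := funext fun _ => by simp

/-- The matrix over `F` of a lattice automorphism. -/
noncomputable def mF (g : Co0) : Matrix Pt Pt F := of fun i j => (((g • e8 j : Λ) : Vec) i : F) / 8

variable {F}

theorem cF_apply (v : Λ) (i : Pt) : cF F v i = ((v : Vec) i : F) := rfl

theorem eight_ne (h2 : (2 : F) ≠ 0) : (8 : F) ≠ 0 := by
  rw [show (8 : F) = 2 ^ 3 by norm_num]; exact pow_ne_zero _ h2

theorem mF_cF (h2 : (2 : F) ≠ 0) (g : Co0) (v : Λ) : mF F g *ᵥ cF F v = cF F (g • v) := funext fun i => by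
  have := congrArg (Int.cast : ℤ → F) (eight_mul_smul_apply g v i)
  push_cast at this
  refine mul_left_cancel₀ (eight_ne h2) ?_
  rw [cF_apply, this, mulVec, dotProduct, Finset.mul_sum]
  exact Finset.sum_congr rfl fun j _ => by
    rw [mF, of_apply, cF_apply, ← mul_assoc, mul_div_cancel₀ _ (eight_ne h2)]

theorem cF_e8 (i : Pt) : cF F (e8 i) = (8 : F) • Pi.single i 1 := funext fun j => by
  rw [cF_apply, e8_apply, Pi.smul_apply, Pi.single_apply]; split_ifs <;> simp

theorem mat_ext (h2 : (2 : F) ≠ 0) {A B : Matrix Pt Pt F} (h : ∀ v : Λ, A *ᵥ cF F v = B *ᵥ cF F v) : A = B := by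
  ext i j
  have := congrFun (h (e8 j)) i
  simpa [cF_e8, mulVec_smul, eight_ne h2] using this

theorem mF_one (h2 : (2 : F) ≠ 0) : mF F 1 = 1 := mat_ext h2 fun v => by rw [mF_cF h2, one_smul, one_mulVec]

theorem mF_mul (h2 : (2 : F) ≠ 0) (g h : Co0) : mF F (g * h) = mF F g * mF F h := mat_ext h2 fun v => by
  rw [← mulVec_mulVec, mF_cF h2, mF_cF h2, mF_cF h2, mul_smul]

theorem mF_sign (h2 : (2 : F) ≠ 0) (c : Finset Pt) (hc : IsCode c) (ξ : Pt → F) (i : Pt) :
    (mF F (sign c hc) *ᵥ ξ) i = if i ∈ c then -ξ i else ξ i := by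
  rw [mat_ext h2 (A := mF F (sign c hc)) (B := diagonal fun i => if i ∈ c then -1 else 1) fun v => funext fun k => by
    rw [mF_cF h2, cF_apply, sign_apply, mulVec_diagonal, cF_apply]; split_ifs <;> simp, mulVec_diagonal]
  split_ifs <;> simp

theorem mF_perm (h2 : (2 : F) ≠ 0) (σ : M24) (ξ : Pt → F) (i : Pt) :
    (mF F (perm σ) *ᵥ ξ) i = ξ (σ.1.symm i) := by
  have k : ∀ (η : Pt → F) i, ((of fun a b : Pt => if b = σ.1.symm a then (1 : F) else 0) *ᵥ η) i =
      η (σ.1.symm i) := fun η i => by simp [mulVec, dotProduct]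
  rw [mat_ext h2 (A := mF F (perm σ)) (B := of fun a b : Pt => if b = σ.1.symm a then (1 : F) else 0)
    fun v => funext fun a => by
    rw [mF_cF h2, k, cF_apply, perm_apply, cF_apply], k]

/-- The standard minimal vector orthogonal to `v1`. -/
def u0 : Λ := v44 none (some 0) 1 1

/-- The standard common neighbour of `v1` and `v2`. -/
def y1 : Λ := v44 none (some 1) 1 1

/-- The automorphisms that fix the coordinates in `T`. -/
def MT (T : Finset Pt) : Subgroup Co0 := ⨅ i ∈ T, MulAction.stabilizer Co0 (e8 i)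

theorem mem_MT {T : Finset Pt} {g : Co0} : g ∈ MT T ↔ ∀ i ∈ T, g • e8 i = e8 i := by
  simp [MT, mem_iInf]

/-- The sign changes off `T`. -/
def RT (T : Finset Pt) : Subgroup Co0 where
  carrier := {g | ∃ c hc, Disjoint c T ∧ g = sign c hc}
  one_mem' := ⟨∅, isCode_empty, by simp, sign_empty.symm⟩
  mul_mem' := by
    rintro _ _ ⟨c, hc, h, rfl⟩ ⟨d, hd, k, rfl⟩
    exact ⟨_, _, (Finset.disjoint_union_left.2 ⟨h, k⟩).mono_left symmDiff_le_sup, sign_mul_sign hc hd⟩
  inv_mem' := by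
    rintro _ ⟨c, hc, h, rfl⟩
    exact ⟨c, hc, h, sign_inv c hc⟩

theorem mem_RT {T : Finset Pt} {g : Co0} : g ∈ RT T ↔ ∃ c hc, Disjoint c T ∧ g = sign c hc := Iff.rfl

abbrev T2 : Finset Pt := {none, some 0}

abbrev T3 : Finset Pt := {none, some 0, some 1}

/-- The 4600 neighbours of `v1`. -/
def DS : Set Λ := {x | nm x = 32 ∧ ip x v1 = 16}

/-- Adjacency on `DS`. -/
def adjD (x y : Λ) : Prop := x ∈ DS ∧ y ∈ DS ∧ ip x y = 16

/-- `G` acts on the lattice as the stabiliser of `v1`, and the fixed points of the kernel embed in `v1^⊥`. -/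
structure CoH {G V : Type*} [Group G] [AddCommGroup V] [DistribMulAction G V] (s : G →* Co0)
    (j : V →+ (Pt → F)) : Prop where
  fix : ∀ g, s g • v1 = v1
  surj : ∀ k : Co0, k • v1 = v1 → ∃ g, s g = k
  two : IsPGroup 2 s.ker
  inj : ∀ ξ, Fx s.ker ξ → j ξ = 0 → ξ = 0
  eqv : ∀ g ξ, Fx s.ker ξ → j (g • ξ) = mF F (s g) *ᵥ j ξ
  perp : ∀ ξ, Fx s.ker ξ → j ξ none = j ξ (some 0)

end Lattice

/-- The points whose extraspecial group contains `t0`. -/
def ZB : Set K := {z | InQ z t0}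

/-- Collinearity on `ZB`. -/
def adjZB (a b : K) : Prop := adjZ a b ∧ InQ a t0 ∧ InQ b t0

/-- The action of `HH` by conjugation. -/
noncomputable def cH : HH →* Equiv.Perm K := (MulAut.toPerm K).comp (MulAut.conj.comp HH.subtype)

theorem cH_apply (g : HH) (x : K) : cH g x = g * x * (g : K)⁻¹ := rfl

/-- The elements of `HH` in the extraspecial group of `z`. -/
def QH (z : K) : Subgroup HH where
  carrier := {x | ∀ g : K, g * z * g⁻¹ = zz → g * x * g⁻¹ ∈ QK}
  one_mem' := fun g _ => by simp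
  mul_mem' := fun {a b} ha hb g e => by
    rw [coe_mul, conj_mul']; exact mul_mem (ha g e) (hb g e)
  inv_mem' := fun {a} ha g e => by
    have := inv_mem (ha g e)
    rwa [show (g * a * g⁻¹)⁻¹ = g * (a : K)⁻¹ * g⁻¹ by group] at this

theorem mem_QH {z : K} (hz : z ∈ ZC) {x : HH} : x ∈ QH z ↔ InQ z x :=
  ⟨fun h => let ⟨g, e⟩ := mem_ZC.1 hz; ⟨g, e, h g e⟩, fun h _ e => h.of_conj e⟩

/-- `V` is a faithful 4371-dimensional module for `HH / ⟨t0⟩` in odd characteristic or characteristic zero. -/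
structure BM (F V : Type*) [Field F] [AddCommGroup V] [Module F V] [DistribMulAction HH V] : Prop where
  two : (2 : F) ≠ 0
  comm : ∀ (g : HH) (a : F) (v : V), g • a • v = a • g • v
  dim : Module.finrank F V = 4371
  ker : ∀ g : HH, (∀ v : V, g • v = v) ↔ (g : K) = 1 ∨ (g : K) = t0

end Cfsg.Agent.B43
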