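import Mathlib
import Cfsg.Agent.B43.Defs

/-! The monomial groups fixing some coordinates. -/

set_option autoImplicit false

namespace Cfsg.Agent.B43

open Subgroup Matrix Cfsg.Agent.Spor Cfsg.Agent.Spor.Leech Cfsg.Agent.Gr Cfsg.Agent.Gr6B
open scoped Pointwise

variable {F : Type*} [Field F] {T : Finset Pt} {g k : Co0} {ξ η : Pt → F}

theorem RT_le (T : Finset Pt) : RT T ≤ MT T := by
  rintro _ ⟨c, hc, h, rfl⟩
  exact mem_MT.2 fun i hi => by rw [sign_e8, if_neg (Finset.disjoint_right.1 h hi)]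

theorem MT_le (hT : T.Nonempty) : MT T ≤ Mon := fun _ hg =>
  let ⟨i, hi⟩ := hT
  mem_Mon_of_e8 (Or.inl (mem_MT.1 hg i hi))

theorem MT_dec (hT : T.Nonempty) (hg : g ∈ MT T) :
    ∃ c hc, ∃ σ : M24, Disjoint c T ∧ σ.1 ∈ Golay.Fix T ∧ g = sign c hc * perm σ := by
  obtain ⟨c, hc, σ, rfl⟩ := MT_le hT hg
  have k : ∀ i ∈ T, σ.1 i = i ∧ i ∉ c := fun i hi => by
    have := mem_MT.1 hg i hi
    rw [sign_mul_perm_e8] at this
    split_ifs at this with q
    · exact absurd this.symm (e8_ne_neg _ _)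
    · exact ⟨e8_injective this, e8_injective this ▸ q⟩
  exact ⟨c, hc, σ, Finset.disjoint_right.2 fun i hi => (k i hi).2, Golay.mem_Fix.2 ⟨σ.2, fun i hi => (k i hi).1⟩, rfl⟩

theorem perm_mem_MT {σ : M24} (h : σ.1 ∈ Golay.Fix T) : perm σ ∈ MT T :=
  mem_MT.2 fun i hi => by rw [perm_e8, (Golay.mem_Fix.1 h).2 i hi]

theorem RT_norm (hT : T.Nonempty) : ∀ g ∈ MT T, ∀ r ∈ RT T, g * r * g⁻¹ ∈ RT T := by
  rintro g hg _ ⟨d, hd, h, rfl⟩
  obtain ⟨c, hc, σ, h1, h2, rfl⟩ := MT_dec hT hg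
  have a : sign c hc ∈ RT T := ⟨c, hc, h1, rfl⟩
  have b : perm σ * sign d hd * (perm σ)⁻¹ ∈ RT T := ⟨_, _, Finset.disjoint_left.2 fun i hi hi' => by
    obtain ⟨j, hj, e⟩ := Finset.mem_smul_finset.1 hi
    obtain rfl : j = i := σ.1.injective (e.trans ((Golay.mem_Fix.1 h2).2 i hi').symm)
    exact Finset.disjoint_left.1 h hj hi', perm_conj_sign _ _ _⟩
  convert mul_mem (mul_mem a b) (inv_mem a) using 1
  group

theorem RT_two (T : Finset Pt) : IsPGroup 2 (RT T) := by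
  rintro ⟨_, c, hc, h, rfl⟩
  exact ⟨1, Subtype.ext (by rw [pow_one, coe_pow, sq, sign_mul_self]; rfl)⟩

theorem MT_perf (h1 : T.Nonempty) (h3 : T.card ≤ 3) : MT T ≤ ⁅MT T, MT T⁆ ⊔ RT T := fun g hg => by
  obtain ⟨c, hc, σ, a, b, rfl⟩ := MT_dec h1 hg
  refine mul_mem (mem_sup_right ⟨c, hc, a, rfl⟩) (mem_sup_left ?_)
  have := Golay.simple_Fix h3
  have hp : commutator (Golay.Fix T) = ⊤ := (IsSimpleGroup.eq_bot_or_eq_top_of_normal _ inferInstance).resolve_left
    fun e => by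
      have c : ∀ x y : Golay.Fix T, x * y = y * x := fun x y => commutatorElement_eq_one_iff_mul_comm.1
        (e.le (commutator_mem_commutator (mem_top x) (mem_top y)))
      let _ : CommGroup (Golay.Fix T) := { (inferInstance : Group _) with mul_comm := c }
      have p := IsSimpleGroup.prime_card (α := Golay.Fix T)
      have := Finset.card_pos.2 h1
      rcases (by omega : T.card = 1 ∨ T.card = 2 ∨ T.card = 3) with q | q | q
      · rw [Golay.card_Fix_one q] at p; norm_num at p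
      · rw [Golay.card_Fix_two q] at p; norm_num at p
      · rw [Golay.card_Fix_three q] at p; norm_num at p
  let φ : Golay.Fix T →* Co0 := perm.comp (inclusion inf_le_left)
  have m : (⊤ : Subgroup (Golay.Fix T)).map φ ≤ MT T := by
    rintro _ ⟨τ, -, rfl⟩
    exact perm_mem_MT τ.2
  refine commutator_mono m m ?_
  rw [← map_commutator, ← commutator_def, hp]
  exact ⟨⟨σ, b⟩, trivial, rfl⟩

theorem MT_card (hT : T.Nonempty) {p : ℕ} (hp : p.Prime) (h5 : 5 ≤ p) : ¬ p ^ 2 ∣ Nat.card (MT T) := fun h => by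
  have a := h.trans (card_dvd_of_le (MT_le hT))
  rw [card_Mon, show 4096 * 244823040 = 6 ^ 3 * 2 ^ 19 * 8855 by norm_num] at a
  have c : Nat.Coprime (p ^ 2) (6 ^ 3 * 2 ^ 19) := by
    have : ¬ p ∣ 6 := fun q => by
      have := Nat.le_of_dvd (by norm_num) q
      interval_cases p <;> simp_all (config := {decide := true})
    exact Nat.Coprime.pow_left _ (Nat.Coprime.mul_right (((Nat.Prime.coprime_iff_not_dvd hp).2 this).pow_right _)
      (((Nat.Prime.coprime_iff_not_dvd hp).2 fun q => this (q.trans (by norm_num))).pow_right _))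
  have b := c.dvd_of_dvd_mul_left a
  have : p ≤ 94 := by
    have := Nat.le_of_dvd (by norm_num) b
    nlinarith
  interval_cases p <;> omega

theorem fix_RT (h2 : (2 : F) ≠ 0) (h4 : T.card ≤ 4) (h : ∀ r ∈ RT T, mF F r *ᵥ ξ = ξ) : ∀ i ∉ T, ξ i = 0 := fun i hi => by
  obtain ⟨o, ho, -, a, b⟩ := exists_octad_sup_disj (a := {i}) (b := T) (by simpa using hi) (by simp; omega)
  have := congrFun (h _ ⟨o, ho, b, rfl⟩) i
  rw [mF_sign h2, if_pos (a (by simp))] at this
  exact (mul_eq_zero.1 (show 2 * ξ i = 0 by linear_combination -this)).resolve_left h2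

theorem MT_fix (h2 : (2 : F) ≠ 0) (h : ∀ i ∉ T, ξ i = 0) (hg : g ∈ MT T) : mF F g *ᵥ ξ = ξ := by
  have e : ξ = ∑ i ∈ T, (ξ i / 8) • cF F (e8 i) := funext fun j => by
    simp only [cF_e8, smul_smul, div_mul_cancel₀ _ (eight_ne h2), Finset.sum_apply, Pi.smul_apply, Pi.single_apply,
      smul_eq_mul, mul_ite, mul_one, mul_zero, Finset.sum_ite_eq]
    split_ifs with q
    exacts [rfl, h j q]
  rw [e, mulVec_sum]
  exact Finset.sum_congr rfl fun i hi => by rw [mulVec_smul, mF_cF h2, mem_MT.1 hg i hi]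

theorem fix_v44 {i j : Pt} (h1 : g • e8 i = e8 i) (h2 : g • e8 j = e8 j) (s t : ℤˣ) :
    g • v44 i j s t = v44 i j s t := eq_of_two_nsmul_eq <| by
  rw [← co0_smul_nsmul, two_smul_v44, smul_add, co0_smul_zsmul, co0_smul_zsmul, h1, h2]

theorem mem_MT2 : g ∈ MT T2 ↔ g • v1 = v1 ∧ g • u0 = u0 := by
  simp only [mem_MT, Finset.mem_insert, Finset.mem_singleton, forall_eq_or_imp, forall_eq]
  exact ⟨fun h => ⟨fix_v44 h.1 h.2 _ _, fix_v44 h.1 h.2 _ _⟩, fun h =>
    ⟨by rw [← v44_add_v44 none (some 0), smul_add]; exact congrArg₂ _ h.2 h.1,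
      by rw [← v44_sub_v44 none (some 0), smul_sub]; exact congrArg₂ _ h.2 h.1⟩⟩

theorem mem_MT3 : g ∈ MT T3 ↔ g • v1 = v1 ∧ g • v2 = v2 ∧ g • y1 = y1 := by
  simp only [mem_MT, Finset.mem_insert, Finset.mem_singleton, forall_eq_or_imp, forall_eq]
  refine ⟨fun h => ⟨fix_v44 h.1 h.2.1 _ _, fix_v44 h.2.2 h.2.1 _ _, fix_v44 h.1 h.2.2 _ _⟩, fun ⟨a, b, c⟩ => ?_⟩
  have e : e8 none = v1 + y1 - v2 ∧ e8 (some 0) = y1 - v1 - v2 ∧ e8 (some 1) = y1 + v2 - v1 := by
    simp only [Subtype.ext_iff, AddSubgroup.coe_sub, AddSubgroup.coe_add, y1, v1, v2, funext_iff, Pi.sub_apply,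
      Pi.add_apply, v44_apply, e8_apply]
    decide
  simp only [e.1, e.2.1, e.2.2, smul_sub, smul_add, a, b, c, and_self]

theorem nm_u0 : nm u0 = 32 := nm_v44 p01 _ _

theorem ip_v1_u0 : ip v1 u0 = 0 := (ip_comm _ _).trans (ip_v44_pm p01)

theorem idx2 : (MT T2).relIndex (MulAction.stabilizer Co0 v1) = 93150 := by
  rw [show MT T2 = MulAction.stabilizer Co0 u0 ⊓ MulAction.stabilizer Co0 v1 from
    Subgroup.ext fun _ => mem_MT2.trans and_comm, inf_relIndex_right, Leech.relIndex_stabilizer, ← (cnt_min nm_v1).2.2, cnt]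
  congr 1
  ext w
  refine ⟨?_, fun ⟨a, b⟩ => trans_orth nm_v1 nm_u0 ip_v1_u0 nm_v1 a b⟩
  rintro ⟨g, a, rfl⟩
  exact ⟨by rw [nm_smul, nm_u0], by rw [← show g • v1 = v1 from a, ip_smul, ip_v1_u0]⟩

theorem ex_neg : ∃ k : Co0, k • v1 = v1 ∧ k • u0 = -u0 :=
  trans_orth nm_v1 nm_u0 ip_v1_u0 nm_v1 ((nm_neg _).trans nm_u0) (by rw [ip_neg_right, ip_v1_u0, neg_zero])

theorem eq_u0 (h2 : (2 : F) ≠ 0) (h : ∀ i ∉ T2, ξ i = 0) (e : ξ none = ξ (some 0)) : ∃ a : F, ξ = a • cF F u0 := by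
  have h4 : (4 : F) ≠ 0 := by rw [show (4 : F) = 2 * 2 by norm_num]; exact mul_ne_zero h2 h2
  refine ⟨ξ none / 4, funext fun i => ?_⟩
  rw [Pi.smul_apply, cF_apply, u0, v44_apply]
  by_cases a : i = none
  · simp [a, h4]
  by_cases b : i = some 0
  · simp [b, h4, e]
  simp [a, b, h i (by simp [a, b])]

theorem two_cross (h2 : (2 : F) ≠ 0) (h3 : (3 : F) ≠ 0) (hk : k • v1 = v1) (n1 : k • u0 ≠ u0)
    (n2 : k • u0 ≠ -u0) (hη : ∀ i ∉ T2, η i = 0) (e : η none = η (some 0))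
    (hξ : ∀ i ∉ T2, (mF F k *ᵥ η) i = 0) : η = 0 := by
  obtain ⟨a, rfl⟩ := eq_u0 h2 hη e
  by_cases a0 : a = 0
  · rw [a0, zero_smul]
  rw [mulVec_smul, mF_cF h2] at hξ
  have hw : nm (k • u0) = 32 := (nm_smul _ _).trans nm_u0
  have ho : ip (k • u0) v1 = 0 := by rw [← hk, ip_smul, ip_comm, ip_v1_u0]
  generalize k • u0 = w at *
  have h4 : (4 : F) ≠ 0 := by rw [show (4 : F) = 2 * 2 by norm_num]; exact mul_ne_zero h2 h2
  have z : ∀ i, i ≠ none → i ≠ some 0 → (w : Vec) i = 0 := fun i p q => by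
    have b := (mul_eq_zero.1 (hξ i (by simp [p, q]))).resolve_left a0
    have c : (w : Vec) i ^ 2 ≤ 32 := hw ▸ sq_le_sqNorm _ i
    have c5 : |(w : Vec) i| ≠ 5 := fun f => by
      rcases shape32 w.2 hw with ⟨p, q, -, x, y, t⟩ | ⟨o, -, -, t⟩ | ⟨c, p, -, x, t⟩
      · by_cases i1 : i = p
        · rw [i1, x] at f; omega
        by_cases i2 : i = q
        · rw [i2, y] at f; omega
        rw [t i i1 i2] at f; exact absurd f (by decide)
      · rw [t] at f; split_ifs at f <;> omega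
      · by_cases i1 : i = p
        · rw [i1, x] at f; omega
        rw [t i i1] at f; omega
    rw [cF_apply] at b
    have l : -6 < (w : Vec) i := by nlinarith
    have u : (w : Vec) i < 6 := by nlinarith
    generalize (w : Vec) i = n at *
    interval_cases n <;> simp_all
  rw [TriV.ip_v1] at ho
  have s : nm w = (w : Vec) none ^ 2 + (w : Vec) (some 0) ^ 2 := by
    rw [nm_def, sqNorm_def, Fintype.sum_eq_add none (some 0) p01 fun i hi => by rw [z i hi.1 hi.2]; rfl]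
  have t : (w : Vec) none = 4 ∨ (w : Vec) none = -4 := sq_eq_sq_iff_eq_or_eq_neg.1 (by
    rw [show (w : Vec) (some 0) = (w : Vec) none by omega] at s; omega)
  rcases t with t | t
  · refine (n1 (Subtype.ext (funext fun i => ?_))).elim
    by_cases p : i = none
    · simp [p, t, u0, v44_apply]
    by_cases q : i = some 0
    · simp [q, u0, v44_apply]; omega
    simp [p, q, u0, v44_apply, z i p q]
  · refine (n2 (Subtype.ext (funext fun i => ?_))).elim
    by_cases p : i = none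
    · simp [p, t, u0, v44_apply]
    by_cases q : i = some 0
    · simp [q, u0, v44_apply]; omega
    simp [p, q, u0, v44_apply, z i p q]

end Cfsg.Agent.B43
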