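import Mathlib
import Cfsg.Agent.B43.CoF
import Cfsg.Agent.Gr.R4.Le

/-! Edges and triangles of the graph on 4600 vectors. -/

set_option autoImplicit false

namespace Cfsg.Agent.B43

open Subgroup Matrix Cfsg.Agent.Spor Cfsg.Agent.Spor.Leech Cfsg.Agent.Gr Cfsg.Agent.Gr6B
open scoped Pointwise

variable {x y z x' y' z' : Λ}

theorem ip_y1 (x : Λ) : ip x y1 = 4 * ((x : Vec) none + (x : Vec) (some 1)) := by rw [y1, ip_v44]; simp

theorem adj_v2_y1 : adjD v2 y1 :=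
  ⟨⟨nm_v2, (ip_comm _ _).trans ip_v1_v2⟩, ⟨R4.nm_x0, by rw [TriV.ip_v1]; simp [y1, v44_apply, TriV.z01]⟩,
    by rw [ip_y1]; simp [v2, v44_apply, TriV.z01.symm]⟩

theorem adjD.symm (h : adjD x y) : adjD y x := ⟨h.2.1, h.1, (ip_comm _ _).trans h.2.2⟩

theorem DS_smul (h : x ∈ DS) {k : Co0} (hk : k • v1 = v1) : k • x ∈ DS :=
  ⟨(nm_smul _ _).trans h.1, by rw [← hk, ip_smul]; exact h.2⟩

theorem adjD.smul (h : adjD x y) {k : Co0} (hk : k • v1 = v1) : adjD (k • x) (k • y) :=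
  ⟨DS_smul h.1 hk, DS_smul h.2.1 hk, (ip_smul _ _ _).trans h.2.2⟩

theorem adjD.std (h : adjD x y) : ∃ k : Co0, k • v1 = v1 ∧ k • x = v2 ∧ k • y = y1 := by
  obtain ⟨g, a, b⟩ := trans_pair nm_v1 h.1.1 nm_v1 nm_v2 (((ip_comm _ _).trans h.1.2).trans ip_v1_v2.symm)
  have k := h.smul a
  rw [b] at k
  obtain ⟨q, -, c, d⟩ := R4.tr891 (X := ⊤) trivial (fun _ _ _ _ _ => trivial) k.2.1.1 ((ip_comm _ _).trans k.2.1.2) k.2.2
  exact ⟨q * g, by rw [mul_smul, a, c.1], by rw [mul_smul, b, c.2], (mul_smul _ _ _).trans d⟩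

theorem trans_edge (h : adjD x y) (h' : adjD x' y') : ∃ k : Co0, k • v1 = v1 ∧ k • x = x' ∧ k • y = y' := by
  obtain ⟨g, a, b, c⟩ := h.std
  obtain ⟨k, a', b', c'⟩ := h'.std
  exact ⟨k⁻¹ * g, by rw [mul_smul, a, inv_smul_eq_iff, a'], by rw [mul_smul, b, inv_smul_eq_iff, b'],
    by rw [mul_smul, c, inv_smul_eq_iff, c']⟩

theorem idx3 : (MT T3).relIndex (MulAction.stabilizer Co0 v1 ⊓ MulAction.stabilizer Co0 v2) = 891 := by
  rw [show MT T3 = MulAction.stabilizer Co0 y1 ⊓ (MulAction.stabilizer Co0 v1 ⊓ MulAction.stabilizer Co0 v2) from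
    Subgroup.ext fun _ => mem_MT3.trans ⟨fun h => ⟨h.2.2, h.1, h.2.1⟩, fun h => ⟨h.2.1, h.2.2, h.1⟩⟩,
    inf_relIndex_right, Leech.relIndex_stabilizer, ← card_891 nm_v1 nm_v2 ip_v1_v2, ← Set.ncard_coe_finset]
  congr 1
  ext w
  simp only [Finset.coe_filter, mem_Min, Set.mem_ofPred_eq]
  refine ⟨?_, fun ⟨a, b, c⟩ => ?_⟩
  · rintro ⟨g, a, rfl⟩
    have := adj_v2_y1.smul a.1
    rw [show g • v2 = v2 from a.2] at this
    exact ⟨this.2.1.1, (ip_comm _ _).trans this.2.1.2, this.2.2⟩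
  · obtain ⟨k, p, q, r⟩ := trans_edge adj_v2_y1 ⟨adj_v2_y1.1, ⟨a, (ip_comm _ _).trans b⟩, c⟩
    exact ⟨k, ⟨p, q⟩, r⟩

/-- `z` is `±2` on the octad `o` and zero elsewhere. -/
structure Oc (z : Λ) (o : Finset Pt) : Prop where
  code : IsCode o
  card : o.card = 8
  abs : ∀ i, |(z : Vec) i| = if i ∈ o then 2 else 0

theorem Oc.zero {o : Finset Pt} (h : Oc z o) {i : Pt} (hi : i ∉ o) : (z : Vec) i = 0 :=
  abs_eq_zero.1 ((h.abs i).trans (if_neg hi))

theorem Oc.pm {o : Finset Pt} (h : Oc z o) {i : Pt} (hi : i ∈ o) : (z : Vec) i = 2 ∨ (z : Vec) i = -2 :=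
  (abs_eq (by norm_num)).1 ((h.abs i).trans (if_pos hi))

theorem Oc.mem {o : Finset Pt} (h : Oc z o) {i : Pt} (hi : (z : Vec) i ≠ 0) : i ∈ o := by_contra fun k => hi (h.zero k)

theorem ex_oc (hz : nm z = 32) {i : Pt} (h : |(z : Vec) i| = 2) : ∃ o, Oc z o := by
  rcases shape32 z.2 hz with ⟨p, q, -, a, b, t⟩ | ⟨o, a, b, t⟩ | ⟨c, p, a, -⟩
  · by_cases i1 : i = p
    · rw [i1, a] at h; omega
    by_cases i2 : i = q
    · rw [i2, b] at h; omega
    rw [t i i1 i2] at h; exact absurd h (by decide)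
  · exact ⟨o, a.1, b, t⟩
  · have := a.odd i
    rcases (abs_eq (by norm_num)).1 h with e | e <;> omega

theorem tri_val (h1 : adjD v2 z) (h2 : adjD y1 z) :
    (z : Vec) none = 2 ∧ (z : Vec) (some 0) = -2 ∧ (z : Vec) (some 1) = 2 := by
  have a := h1.2.1.2
  have b := h1.2.2
  have c := h2.2.2
  rw [TriV.ip_v1] at a
  rw [ip_comm, TriV.ip_v2] at b
  rw [ip_comm, ip_y1] at c
  omega

theorem tri_oc (h1 : adjD v2 z) (h2 : adjD y1 z) : ∃ o, Oc z o ∧ T3 ⊆ o := by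
  obtain ⟨a, b, c⟩ := tri_val h1 h2
  obtain ⟨o, h⟩ := ex_oc h1.2.1.1 (i := none) (by rw [a]; rfl)
  refine ⟨o, h, fun i hi => h.mem ?_⟩
  simp only [Finset.mem_insert, Finset.mem_singleton] at hi
  rcases hi with rfl | rfl | rfl <;> omega

/-- An even subset of an octad is cut out by a code word. -/
theorem ex_cut {o D : Finset Pt} (h8 : o.card = 8) (hD : D ⊆ o) (he : Even D.card) : ∃ c, IsCode c ∧ c ∩ o = D :=
  exists_code_inter hD fun d hd k => by
    rcases d.eq_empty_or_nonempty with rfl | n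
    · simp
    · rwa [Finset.eq_of_subset_of_card_le k (h8 ▸ hd.eight_le n), Finset.inter_eq_right.2 hD]

theorem Oc.sign_eq {o : Finset Pt} (h : Oc z o) (h' : Oc z' o) :
    ∃ c hc, (∀ i ∈ o, i ∈ c ↔ (z : Vec) i ≠ (z' : Vec) i) ∧ sign c hc • z = z' := by
  have k : ∀ i, ((z - z' : Λ) : Vec) i ^ 2 = (if i ∈ o.filter fun i => (z : Vec) i ≠ (z' : Vec) i then 16 else 0) ∧
      ((z - z' : Λ) : Vec) i % 4 = 0 := fun i => by
    rw [AddSubgroup.coe_sub, Pi.sub_apply]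
    by_cases hi : i ∈ o
    · rcases h.pm hi with a | a <;> rcases h'.pm hi with b | b <;> simp [a, b, hi]
    · simp [h.zero hi, h'.zero hi]
  obtain ⟨e, he⟩ := evenL_of_even (z - z').2 (i := none) (by have := (k none).2; omega)
  obtain rfl : e = ∅ := Finset.eq_empty_of_forall_notMem fun i hi => by
    have := (he.mem_iff i).1 hi
    have := (k i).2
    omega
  have d := he.dvd_of_empty
  rw [sqNorm_def, Finset.sum_congr rfl fun i _ => (k i).1, sum_ite_pt] at d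
  obtain ⟨c, hc, e⟩ := ex_cut h.card (Finset.filter_subset (fun i => (z : Vec) i ≠ (z' : Vec) i) o)
    (Nat.even_iff.2 (by omega))
  have m : ∀ i ∈ o, i ∈ c ↔ (z : Vec) i ≠ (z' : Vec) i := fun i hi => by
    have := Finset.ext_iff.1 e i
    simpa [hi] using this
  refine ⟨c, hc, m, Subtype.ext (funext fun i => ?_)⟩
  rw [Leech.sign_apply]
  by_cases hi : i ∈ o
  · have := m i hi
    rcases h.pm hi with a | a <;> rcases h'.pm hi with b | b <;> simp_all
  · simp [h.zero hi, h'.zero hi]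

theorem oct_tr (h1 : adjD v2 z) (h2 : adjD y1 z) (k1 : adjD v2 z') (k2 : adjD y1 z') {o o' : Finset Pt} (h : Oc z o)
    (h' : Oc z' o') (t : T3 ⊆ o) (t' : T3 ⊆ o') {a b : Pt} (ha : a ∈ o) (ha' : a ∉ T3) (hb : b ∈ o') (hb' : b ∉ T3) :
    ∃ c hc, ∃ σ : M24, sign c hc * perm σ ∈ MT T3 ∧ σ.1 a = b ∧ (sign c hc * perm σ) • z = z' := by
  obtain ⟨a2, p1, p2⟩ := exists_mem_notMem (s := o) (t := insert a T3) (by
    rw [Finset.card_insert_of_notMem ha', h.card]; decide)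
  obtain ⟨b2, q1, q2⟩ := exists_mem_notMem (s := o') (t := insert b T3) (by
    rw [Finset.card_insert_of_notMem hb', h'.card]; decide)
  rw [Finset.mem_insert, not_or] at p2 q2
  obtain ⟨σ, s1, s2⟩ := Golay.exists_Fix_map_list T3 [a, a2] [b, b2] (by simp [Ne.symm p2.1]) (by simp [Ne.symm q2.1])
    (by simp only [List.mem_cons, List.not_mem_nil, or_false, forall_eq_or_imp, forall_eq]; exact ⟨ha', p2.2⟩)
    (by simp only [List.mem_cons, List.not_mem_nil, or_false, forall_eq_or_imp, forall_eq]; exact ⟨hb', q2.2⟩)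
    rfl (by rw [List.length_cons, List.length_singleton]; decide)
  have f := Golay.mem_Fix.1 s1
  simp only [List.map_cons, List.map_nil, List.cons.injEq, and_true] at s2
  have m : ∀ {i}, i ∈ o → σ i ∈ σ • o := fun hi => Finset.smul_mem_smul_finset hi
  have e : σ • o = o' := octad_eq_of_five_le (h.code.smul f.1) ((Finset.card_smul_finset _ _).trans h.card) h'.code h'.card
    (le_trans (by rw [Finset.card_insert_of_notMem (by simpa [not_or] using q2), Finset.card_insert_of_notMem hb']; decide)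
      (Finset.card_le_card (s := insert b2 (insert b T3)) (Finset.insert_subset (Finset.mem_inter.2 ⟨s2.2 ▸ m p1, q1⟩)
        (Finset.insert_subset (Finset.mem_inter.2 ⟨s2.1 ▸ m ha, hb⟩) fun i hi =>
          Finset.mem_inter.2 ⟨f.2 i hi ▸ m (t hi), t' hi⟩))))
  have g : Oc (perm ⟨σ, f.1⟩ • z) o' := ⟨h'.code, h'.card, fun i => by
    rw [perm_apply, h.abs, ← e]; simp only [mem_smul_iff]⟩
  obtain ⟨c, hc, c1, c2⟩ := g.sign_eq h'
  refine ⟨c, hc, ⟨σ, f.1⟩, mul_mem (RT_le _ ⟨c, hc, Finset.disjoint_right.2 fun i hi k => (c1 i (t' hi)).1 k ?_, rfl⟩)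
    (perm_mem_MT s1), s2.1, (mul_smul _ _ _).trans c2⟩
  have := perm_apply' ⟨σ, f.1⟩ z i
  rw [show (⟨σ, f.1⟩ : M24).1 i = i from f.2 i hi] at this
  rw [this]
  have u := tri_val h1 h2
  have v := tri_val k1 k2
  simp only [Finset.mem_insert, Finset.mem_singleton] at hi
  rcases hi with rfl | rfl | rfl <;> omega

theorem ex_off {o : Finset Pt} (h : Oc z o) : ∃ a ∈ o, a ∉ T3 := exists_mem_notMem (by rw [h.card]; decide)

theorem trans_tri (h1 : adjD x y) (h2 : adjD x z) (h3 : adjD y z) (k1 : adjD x' y') (k2 : adjD x' z')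
    (k3 : adjD y' z') : ∃ k : Co0, k • v1 = v1 ∧ k • x = x' ∧ k • y = y' ∧ k • z = z' := by
  obtain ⟨g, a, b, c⟩ := h1.std
  obtain ⟨k, a', b', c'⟩ := k1.std
  have p1 := b ▸ h2.smul a
  have p2 := c ▸ h3.smul a
  have q1 := b' ▸ k2.smul a'
  have q2 := c' ▸ k3.smul a'
  obtain ⟨o, h, t⟩ := tri_oc p1 p2
  obtain ⟨o', h', t'⟩ := tri_oc q1 q2
  obtain ⟨i, i1, i2⟩ := ex_off h
  obtain ⟨j, j1, j2⟩ := ex_off h'
  obtain ⟨d, hd, σ, m, -, e⟩ := oct_tr p1 p2 q1 q2 h h' t t' i1 i2 j1 j2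
  obtain ⟨m1, m2, m3⟩ := mem_MT3.1 m
  generalize sign d hd * perm σ = n at *
  exact ⟨k⁻¹ * (n * g), by rw [mul_smul, mul_smul, a, m1, inv_smul_eq_iff, a'],
    by rw [mul_smul, mul_smul, b, m2, inv_smul_eq_iff, b'], by rw [mul_smul, mul_smul, c, m3, inv_smul_eq_iff, c'],
    by rw [mul_smul, mul_smul, e, inv_smul_smul]⟩

theorem ex_abc {F : Type*} [Field F] (h2 : (2 : F) ≠ 0) {η : Pt → F} (h : ∀ i ∉ T3, η i = 0) :
    ∃ α β γ : F, η = α • cF F v1 + β • cF F v2 + γ • cF F y1 := by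
  have h8 := eight_ne h2
  refine ⟨(η none - η (some 0) - η (some 1)) / 8, (η (some 1) - η (some 0) - η none) / 8,
    (η none + η (some 0) + η (some 1)) / 8, funext fun i => ?_⟩
  simp only [Pi.add_apply, Pi.smul_apply, cF_apply, v1, v2, y1, v44_apply, smul_eq_mul]
  by_cases a : i = none
  · simp [a]; field_simp; ring
  by_cases b : i = some 0
  · simp [b, TriV.z01]; field_simp; ring
  by_cases c : i = some 1
  · simp [c, TriV.z01.symm]; field_simp; ring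
  simp [a, b, c, h i (by simp [a, b, c])]

theorem fix_tri {F : Type*} [Field F] (h2 : (2 : F) ≠ 0) (h1 : adjD v2 z) (h3 : adjD y1 z) {s t : Co0}
    (ht : t • v1 = v1 ∧ t • v2 = v2 ∧ t • y1 = z ∧ t • z = y1)
    (hs : s • v1 = v1 ∧ s • v2 = y1 ∧ s • y1 = v2 ∧ s • z = z) {ξ : Pt → F}
    (hξ : ∀ g : Co0, g • v1 = v1 → g • v2 = v2 → g • y1 = y1 → g • z = z → mF F g *ᵥ ξ = ξ)
    (hc : mF F (s * t) *ᵥ ξ = ξ) : mF F s *ᵥ ξ = ξ := by
  obtain ⟨o, h, w⟩ := tri_oc h1 h3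
  have H : ∀ g ∈ MT T3, g • z = z → mF F g *ᵥ ξ = ξ := fun g m e =>
    hξ g (mem_MT3.1 m).1 (mem_MT3.1 m).2.1 (mem_MT3.1 m).2.2 e
  have p : ∀ i ∉ o, ξ i = 0 := fun i hi => by
    have := congrFun (H (sign oᶜ h.code.compl) (RT_le _ ⟨_, _, Finset.disjoint_right.2 fun j hj k =>
      Finset.mem_compl.1 k (w hj), rfl⟩) (Subtype.ext (funext fun j => by
        rw [Leech.sign_apply]
        split_ifs with q
        exacts [by rw [h.zero (Finset.mem_compl.1 q), neg_zero], rfl]))) i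
    rw [mF_sign h2, if_pos (Finset.mem_compl.2 hi)] at this
    exact (mul_eq_zero.1 (show 2 * ξ i = 0 by linear_combination -this)).resolve_left h2
  obtain ⟨a, a1, a2⟩ := ex_off h
  have za : cF F z a ≠ 0 := by rcases h.pm a1 with e | e <;> simp [cF_apply, e, h2]
  obtain ⟨α, β, γ, e⟩ := ex_abc h2 (η := ξ - (ξ a / cF F z a) • cF F z) fun i hi => by
    rw [Pi.sub_apply, Pi.smul_apply, smul_eq_mul, sub_eq_zero]
    by_cases q : i ∈ o
    · obtain ⟨c, hc, σ, m, rfl, r⟩ := oct_tr h1 h3 h1 h3 h h w w a1 a2 q hi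
      have u := congrFun (H _ m r) (σ.1 a)
      have v := congrFun (congrArg (cF F) r) (σ.1 a)
      rw [← mF_cF h2] at v
      rw [mF_mul h2, ← mulVec_mulVec, mF_sign h2, mF_perm h2, Equiv.symm_apply_apply] at u v
      rw [← u, ← v]
      split_ifs <;> field_simp
    · rw [p i q, cF_apply z i, h.zero q, Int.cast_zero, mul_zero]
  rw [sub_eq_iff_eq_add] at e
  generalize ξ a / cF F z a = δ at e
  subst e
  simp only [mulVec_add, mulVec_smul, mF_cF h2, mul_smul, ht, hs] at hc ⊢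
  have c1 := congrFun hc a
  have c2 := congrFun hc none
  simp only [Finset.mem_insert, Finset.mem_singleton, not_or] at a2
  rw [cF_apply] at za
  simp [cF_apply, (tri_val h1 h3).1, v1, v2, y1, v44_apply, a2, za] at c1 c2
  obtain rfl : β = γ := mul_left_cancel₀ (mul_ne_zero h2 h2) (by rw [c1] at c2 ⊢; linear_combination c2)
  abel

end Cfsg.Agent.B43
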