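import Mathlib
import Cfsg.Agent.B43.Tri

/-! Common neighbours in the graph on 4600 vectors. -/

set_option autoImplicit false

namespace Cfsg.Agent.B43

open Subgroup Matrix Cfsg.Agent.Spor Cfsg.Agent.Spor.Leech Cfsg.Agent.Gr Cfsg.Agent.Gr6B

variable {x y y' r r' w : Λ}

namespace LatAux

variable {o : Finset Pt} {p a : Pt}

theorem shape3 (hx : nm x = 32) (h : |(x : Vec) p| = 3) {i : Pt} (hi : i ≠ p) : |(x : Vec) i| = 1 := by
  rcases shape32 x.2 hx with ⟨s, q, -, a, b, t⟩ | ⟨o, -, -, t⟩ | ⟨c, q, -, -, t⟩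
  · by_cases i1 : p = s
    · rw [i1, a] at h; omega
    by_cases i2 : p = q
    · rw [i2, b] at h; omega
    rw [t p i1 i2] at h; exact absurd h (by decide)
  · rw [t] at h; split_ifs at h <;> omega
  · exact t i fun e => by rw [t p (e ▸ hi.symm)] at h; omega

theorem adj_of (hx : x ∈ DS) (hw : w ∈ DS) (n : x ≠ w) (h : 8 < ip x w) : adjD x w := by
  refine ⟨hx, hw, ?_⟩
  have a := le_nm (sub_ne_zero.2 n)
  have b := eight_dvd_ip x w
  rw [nm_sub, hx.1, hw.1] at a
  omega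

theorem card_S (h8 : o.card = 8) (t : T3 ⊆ o) (hp : p ∈ o) (hp' : p ∉ T3) : ((o \ T3).erase p).card = 4 := by
  rw [Finset.card_erase_of_mem (Finset.mem_sdiff.2 ⟨hp, hp'⟩), Finset.card_sdiff_of_subset t, h8]; decide

/-- A common neighbour of the standard edge whose signs agree with `x` on four points. -/
theorem ex_m (ho : IsCode o) (h8 : o.card = 8) (t : T3 ⊆ o) (hp : p ∈ o) (hp' : p ∉ T3) (x : Λ) :
    ∃ m : Λ, adjD m v2 ∧ adjD m y1 ∧ ∀ w ∈ DS, (w : Vec) (some 1) ≠ 2 →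
      8 < 2 * ((w : Vec) none - (w : Vec) (some 0) + (w : Vec) (some 1)) - 2 * |(w : Vec) p| +
        2 * ∑ i ∈ (o \ T3).erase p, (if (x : Vec) i < 0 then -(w : Vec) i else (w : Vec) i) → adjD m w := by
  obtain ⟨D, d1, d2, d3⟩ : ∃ D ⊆ o, Even D.card ∧ ∀ i ∈ o, i ≠ p → (i ∈ D ↔ i = some 0 ∨ i ∉ T3 ∧ (x : Vec) i < 0) := by
    let E := (o.erase p).filter fun i => i = some 0 ∨ i ∉ T3 ∧ (x : Vec) i < 0
    have e : E ⊆ o := (Finset.filter_subset _ _).trans (Finset.erase_subset _ _)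
    by_cases k : Even E.card
    · exact ⟨E, e, k, fun i a b => by simp [E, a, b]⟩
    · exact ⟨insert p E, Finset.insert_subset hp e, by
        rw [Finset.card_insert_of_notMem (by simp [E])]; exact Nat.even_add_one.2 k, fun i a b => by simp [E, a, b]⟩
  obtain ⟨c, hc, rfl⟩ := ex_cut h8 d1 d2
  have v : ∀ i, ((sign c hc • two o ho : Λ) : Vec) i = if i ∈ o then if i ∈ c then -2 else 2 else 0 := fun i => by
    rw [Leech.sign_apply, two_apply]; split_ifs <;> rfl
  have n : nm (sign c hc • two o ho) = 32 := by rw [nm_smul, nm_two, h8]; rfl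
  generalize sign c hc • two o ho = m at v n
  have q : ∀ i ∈ T3, (m : Vec) i = if i = some 0 then -2 else 2 := fun i hi => by
    have := d3 i (t hi) fun e => hp' (e ▸ hi)
    rw [v, if_pos (t hi)]
    simp only [Finset.mem_inter, t hi, hi, and_true, not_true, false_and, or_false] at this
    simp only [this]
  have q0 : (m : Vec) none = 2 := q _ (by decide)
  have q1 : (m : Vec) (some 0) = -2 := q _ (by decide)
  have q2 : (m : Vec) (some 1) = 2 := q _ (by decide)
  have hm : m ∈ DS := ⟨n, by rw [TriV.ip_v1, q0, q1]; rfl⟩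
  refine ⟨m, ⟨hm, adj_v2_y1.1, by rw [TriV.ip_v2, q2, q1]; rfl⟩, ⟨hm, adj_v2_y1.2.1, by rw [ip_y1, q0, q2]; rfl⟩,
    fun w hw h1 h => adj_of hm hw (fun e => h1 (e ▸ q2)) (h.trans_le ?_)⟩
  have s : ∑ i ∈ (o \ T3).erase p, (m : Vec) i * (w : Vec) i =
      2 * ∑ i ∈ (o \ T3).erase p, (if (x : Vec) i < 0 then -(w : Vec) i else (w : Vec) i) := by
    rw [Finset.mul_sum]
    refine Finset.sum_congr rfl fun i hi => ?_
    obtain ⟨i1, i2⟩ := Finset.mem_erase.1 hi
    obtain ⟨i2, i3⟩ := Finset.mem_sdiff.1 i2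
    have := d3 i i2 i1
    have i4 : i ≠ some 0 := fun e => i3 (by simp [e])
    simp only [Finset.mem_inter, i2, i3, i4, and_true, not_false_eq_true, true_and, false_or] at this
    rw [v, if_pos i2]
    simp only [this]
    split_ifs <;> ring
  have u : -(2 * |(w : Vec) p|) ≤ (m : Vec) p * (w : Vec) p := by
    have := neg_abs_le ((w : Vec) p)
    have := le_abs_self ((w : Vec) p)
    rw [v, if_pos hp]
    split_ifs <;> omega
  rw [ip_def, dotInt_def, ← Finset.sum_subset (Finset.subset_univ o) fun i _ hi => by rw [v, if_neg hi, zero_mul],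
    ← Finset.sum_sdiff t, ← Finset.sum_erase_add _ _ (Finset.mem_sdiff.2 ⟨hp, hp'⟩), s,
    Finset.sum_insert (by decide), Finset.sum_pair (by decide), q0, q1, q2]
  omega

theorem sum_abs (s : Finset Pt) (x : Λ) :
    ∑ i ∈ s, (if (x : Vec) i < 0 then -(x : Vec) i else (x : Vec) i) = ∑ i ∈ s, |(x : Vec) i| :=
  Finset.sum_congr rfl fun i _ => by
    split_ifs with h
    exacts [(abs_of_neg h).symm, (abs_of_nonneg (not_lt.1 h)).symm]

/-- The case of a vector with constant absolute value on five points. -/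
theorem caseA (ho : IsCode o) (h8 : o.card = 8) (t : T3 ⊆ o) (hx : x ∈ DS) (h1 : (x : Vec) (some 1) ≠ 2) {n : ℤ}
    (h : ∀ i ∈ o, i ∉ T3 → |(x : Vec) i| = n)
    (k : 4 < (x : Vec) none - (x : Vec) (some 0) + (x : Vec) (some 1) + 3 * n) :
    ∃ m, adjD m v2 ∧ adjD m y1 ∧ adjD m x := by
  obtain ⟨p, a, b⟩ := exists_mem_notMem (s := o) (t := T3) (by rw [h8]; decide)
  obtain ⟨m, m1, m2, m3⟩ := ex_m ho h8 t a b x
  refine ⟨m, m1, m2, m3 x hx h1 ?_⟩
  rw [sum_abs, Finset.sum_congr rfl fun i hi => h i (Finset.mem_sdiff.1 (Finset.mem_of_mem_erase hi)).1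
    (Finset.mem_sdiff.1 (Finset.mem_of_mem_erase hi)).2, Finset.sum_const, card_S h8 t a b, h p a b]
  simp only [nsmul_eq_mul, Nat.cast_ofNat]
  omega

theorem caseO (hx : x ∈ DS) (h1 : (x : Vec) (some 1) ≠ 2) (hp : p ∈ T3) (h : |(x : Vec) p| = 3)
    (k : 1 < (x : Vec) none - (x : Vec) (some 0) + (x : Vec) (some 1)) : ∃ m, adjD m v2 ∧ adjD m y1 ∧ adjD m x := by
  obtain ⟨o, a, b, c⟩ := exists_octad_superset (s := T3) (by decide)
  exact caseA a b c hx h1 (n := 1) (fun i _ q => shape3 hx.1 h fun e => q (e ▸ hp)) (by omega)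

/-- The case of a vector with small support. -/
theorem caseC (ha : a ∉ T3) (h : (x : Vec) a ≠ 0) {s : Finset Pt} (hs : ∀ i ∉ s, (x : Vec) i = 0)
    (H : ∀ o, IsCode o → o.card = 8 → T3 ⊆ o → ¬ o \ T3 ⊆ s) : ∃ m, adjD m v2 ∧ adjD m y1 ∧ ∀ w ∈ DS,
      (w : Vec) (some 1) = 0 → (∀ i ∉ T3, (w : Vec) i = (x : Vec) i) → adjD m w := by
  obtain ⟨o, a1, b, c⟩ := exists_octad_superset (s := insert a T3) (by rw [Finset.card_insert_of_notMem ha]; decide)
  obtain ⟨c, t⟩ := Finset.insert_subset_iff.1 c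
  obtain ⟨p, p1, p2⟩ := Finset.not_subset.1 (H o a1 b t)
  obtain ⟨p1, p3⟩ := Finset.mem_sdiff.1 p1
  obtain ⟨m, m1, m2, m3⟩ := ex_m a1 b t p1 p3 x
  refine ⟨m, m1, m2, fun w hw h1 e => m3 w hw (by omega) ?_⟩
  have k := hw.2
  have u := Finset.single_le_sum (s := (o \ T3).erase p) (f := fun i => |(x : Vec) i|) (fun _ _ => abs_nonneg _)
    (Finset.mem_erase.2 ⟨fun q : a = p => h (q ▸ hs p p2), Finset.mem_sdiff.2 ⟨c, ha⟩⟩)
  have v := abs_pos.2 h
  rw [TriV.ip_v1] at k
  rw [Finset.sum_congr rfl fun i hi => by rw [e i (Finset.mem_sdiff.1 (Finset.mem_of_mem_erase hi)).2], sum_abs, e p p3,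
    hs p p2, abs_zero]
  linarith

theorem caseF (hx : nm x = 32) (h : |(x : Vec) p| = 4) (h0 : ∀ i ∈ T3, i ≠ p → (x : Vec) i = 0) :
    ∃ m, adjD m v2 ∧ adjD m y1 ∧ ∀ w ∈ DS, (w : Vec) (some 1) = 0 → (∀ i ∉ T3, (w : Vec) i = (x : Vec) i) → adjD m w := by
  obtain ⟨q, a, b, c⟩ := shape32_four hx h
  have n : (x : Vec) q ≠ 0 := fun e => by rw [e] at b; exact absurd b (by decide)
  refine caseC (fun k => n (h0 q k a)) n (s := {p, q}) (fun i hi => c i (fun e => hi (by simp [e])) fun e => hi (by simp [e]))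
    fun o _ h8 t k => ?_
  have := (Finset.card_le_card k).trans Finset.card_le_two
  rw [Finset.card_sdiff_of_subset t, h8] at this
  exact absurd this (by decide)

theorem lat1s (hx : x ∈ DS) (h1 : ip x v2 = 8 ∨ ip x v2 = 0) (h2 : ip x y1 = 8 ∨ ip x y1 = 0) :
    ∃ m, adjD m v2 ∧ adjD m y1 ∧ adjD m x := by
  have k := hx.2
  rw [TriV.ip_v1] at k
  rw [TriV.ip_v2] at h1
  rw [ip_y1] at h2
  rcases h1 with h1 | h1 <;> rcases h2 with h2 | h2
  · obtain ⟨o, h⟩ := ex_oc hx.1 (i := none) (by rw [show (x : Vec) none = 2 by omega]; rfl)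
    obtain ⟨a, a1, a2⟩ := ex_off h
    obtain ⟨m, m1, m2, m3⟩ := caseC a2 (x := x) (by have := h.pm a1; omega) (fun _ => h.zero) fun o' b1 b2 t q => by
      have e := octad_eq_of_five_le b1 b2 h.code h.card (le_trans (by rw [Finset.card_sdiff_of_subset t, b2]; decide)
        (Finset.card_le_card (Finset.subset_inter Finset.sdiff_subset q)))
      have := h.pm (e ▸ t (show some 1 ∈ T3 by decide))
      omega
    exact ⟨m, m1, m2, m3 x hx (by omega) fun _ _ => rfl⟩
  · exact caseO hx (by omega) (p := some 0) (by decide) (by rw [show (x : Vec) (some 0) = -3 by omega]; rfl) (by omega)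
  · exact caseO hx (by omega) (p := none) (by decide) (by rw [show (x : Vec) none = 3 by omega]; rfl) (by omega)
  · obtain ⟨o, h⟩ := ex_oc hx.1 (i := none) (by rw [show (x : Vec) none = 2 by omega]; rfl)
    refine caseA h.code h.card (fun i hi => h.mem ?_) hx (by omega) (n := 2) (fun i hi _ => by rw [h.abs, if_pos hi])
      (by omega)
    simp only [Finset.mem_insert, Finset.mem_singleton] at hi
    rcases hi with rfl | rfl | rfl <;> omega

theorem nbr (h : adjD v2 y) : y1 = y ∨ adjD y1 y ∨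
    (y : Vec) none = 1 ∧ (y : Vec) (some 0) = -3 ∧ (y : Vec) (some 1) = 1 ∨
      (y : Vec) none = 0 ∧ (y : Vec) (some 0) = -4 ∧ (y : Vec) (some 1) = 0 := by
  by_cases e : y1 = y
  · exact Or.inl e
  by_cases f : 8 < ip y1 y
  · exact Or.inr (Or.inl (adj_of adj_v2_y1.2.1 h.2.1 e f))
  have a := h.2.1.2
  have b := h.2.2
  rw [TriV.ip_v1] at a
  rw [ip_comm, TriV.ip_v2] at b
  rw [ip_comm, ip_y1] at f
  have c : ¬ (y : Vec) (some 0) ≤ -5 := fun q => by
    rcases shape32 y.2 h.2.1.1 with ⟨s, q, -, a, b, t⟩ | ⟨o, -, -, t⟩ | ⟨c, q, -, a, t⟩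
    · have := t (some 0)
      rw [Int.abs_eq_natAbs] at a b
      by_cases i1 : some 0 = s
      · subst i1; omega
      by_cases i2 : some 0 = q
      · subst i2; omega
      have := this i1 i2; omega
    · have := t (some 0)
      rw [Int.abs_eq_natAbs] at this
      split_ifs at this <;> omega
    · by_cases i1 : some 0 = q
      · subst i1; rw [Int.abs_eq_natAbs] at a; omega
      have := t _ i1
      rw [Int.abs_eq_natAbs] at this; omega
  omega

theorem lat3s (h : adjD v2 y) : y1 = y ∨ adjD y1 y ∨ ∃ m, adjD m v2 ∧ adjD m y1 ∧ adjD m y := by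
  rcases nbr h with e | e | ⟨a, b, c⟩ | ⟨a, b, c⟩
  · exact Or.inl e
  · exact Or.inr (Or.inl e)
  · exact Or.inr (Or.inr (caseO h.2.1 (by omega) (p := some 0) (by decide) (by rw [b]; rfl) (by omega)))
  · obtain ⟨m, m1, m2, m3⟩ := caseF h.2.1.1 (p := some 0) (by rw [b]; rfl) (by simp [a, c])
    exact Or.inr (Or.inr ⟨m, m1, m2, m3 y h.2.1 c fun _ _ => rfl⟩)

theorem ip_four (hx : nm x = 32) (h : |(x : Vec) p| = 4) (hw : nm w = 32) {q : Pt} (k : |(w : Vec) q| = 3)
    (n : p ≠ q) : ip w x ≠ 16 ∨ ∃ l, l ≠ p ∧ |(x : Vec) l| = 4 ∧ l = q := by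
  obtain ⟨l, a, b, c⟩ := shape32_four hx h
  refine (eq_or_ne l q).symm.imp (fun e => ?_) fun e => ⟨l, a, b, e⟩
  have u := shape3 hw k n
  have v := shape3 hw k e
  rw [eq_v44 a.symm h b c, ip_v44]
  rw [Int.abs_eq_natAbs] at u v
  rcases Int.units_eq_one_or (sg ((x : Vec) p)) with s | s <;> rcases Int.units_eq_one_or (sg ((x : Vec) l)) with t | t <;>
    simp only [s, t, Units.val_neg, Units.val_one] <;> omega

theorem lat2s (h2 : adjD v2 r') (h3 : adjD y y1) (h4 : adjD y r') (h : ip v2 y = 8 ∨ ip v2 y = 0) :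
    y1 = r' ∨ adjD y1 r' ∨ ∃ m, adjD m v2 ∧ adjD m y ∧ adjD m y1 ∧ adjD m r' := by
  have k1 := h3.1.2
  have k2 := h3.2.2
  rw [TriV.ip_v1] at k1
  rw [ip_y1] at k2
  rw [ip_comm, TriV.ip_v2] at h
  have hy := h3.1.1
  have hr := h2.2.1.1
  have u : nm (y - r') = 32 := by rw [nm_sub, hy, hr, h4.2.2]; rfl
  have uv : ∀ i, ((y - r' : Λ) : Vec) i = (y : Vec) i - (r' : Vec) i := fun _ => rfl
  rcases nbr h2 with e | e | ⟨a, b, c⟩ | ⟨a, b, c⟩
  · exact Or.inl e
  · exact Or.inr (Or.inl e)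
  all_goals refine Or.inr (Or.inr ?_)
  · have r3 : |(r' : Vec) (some 0)| = 3 := by rw [b]; rfl
    rcases h with h | h
    · have y3 : |(y : Vec) none| = 3 := by rw [show (y : Vec) none = 3 by omega]; rfl
      obtain ⟨O, hO⟩ := ex_oc u (i := none) (by rw [uv, show (y : Vec) none = 3 by omega, a]; rfl)
      obtain ⟨o, o1, o2, t⟩ := exists_octad_superset (s := T3) (by decide)
      have e : ((o \ T3) ∩ O).card ≤ 2 := by
        by_contra n
        have := hO.pm (octad_eq_of_five_le o1 o2 hO.code hO.card (le_trans (by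
          rw [Finset.card_insert_of_notMem (by simp), Finset.card_insert_of_notMem (by simp)]; omega)
          (Finset.card_le_card (s := insert none (insert (some 0) ((o \ T3) ∩ O))) (Finset.insert_subset
            (Finset.mem_inter.2 ⟨t (by decide), hO.mem (by rw [uv]; omega)⟩) (Finset.insert_subset
            (Finset.mem_inter.2 ⟨t (by decide), hO.mem (by rw [uv]; omega)⟩)
              (Finset.inter_subset_inter_right Finset.sdiff_subset))))) ▸ t (show some 1 ∈ T3 by decide))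
        rw [uv] at this
        omega
      obtain ⟨p, p1, p2⟩ : ∃ p ∈ o \ T3, ((o \ T3).erase p ∩ O).card ≤ 1 := by
        rcases ((o \ T3) ∩ O).eq_empty_or_nonempty with q | ⟨p, q⟩
        · obtain ⟨p, a, b⟩ := exists_mem_notMem (s := o) (t := T3) (by rw [o2]; decide)
          exact ⟨p, Finset.mem_sdiff.2 ⟨a, b⟩, by rw [Finset.erase_inter, q]; simp⟩
        · exact ⟨p, (Finset.mem_inter.1 q).1, by rw [Finset.erase_inter, Finset.card_erase_of_mem q]; omega⟩
      obtain ⟨p1, p3⟩ := Finset.mem_sdiff.1 p1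
      have s1 : ∀ i ∉ T3, |(y : Vec) i| = 1 := fun i hi => shape3 hy y3 fun e => hi (by simp [e])
      have s2 : ∀ i ∉ T3, |(r' : Vec) i| = 1 := fun i hi => shape3 hr r3 fun e => hi (by simp [e])
      have cS := card_S o2 t p1 p3
      obtain ⟨m, m1, m2, m3⟩ := ex_m o1 o2 t p1 p3 y
      refine ⟨m, m1, m3 y h3.1 (by omega) ?_, m2, m3 r' h2.2.1 (by omega) ?_⟩
      · rw [sum_abs, Finset.sum_congr rfl fun i hi => s1 i (Finset.mem_sdiff.1 (Finset.mem_of_mem_erase hi)).2,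
          Finset.sum_const, cS, s1 p p3]
        simp only [nsmul_eq_mul, Nat.cast_ofNat]
        omega
      · rw [Finset.sum_congr rfl (g := fun i => 1 - if i ∈ O then 2 else 0) fun i hi => by
          have i1 := (Finset.mem_sdiff.1 (Finset.mem_of_mem_erase hi)).2
          have j1 := s1 i i1
          have j2 := s2 i i1
          have j3 := hO.abs i
          rw [uv] at j3
          rw [Int.abs_eq_natAbs] at j1 j2 j3
          split_ifs at j3 ⊢ <;> omega, Finset.sum_sub_distrib, Finset.sum_const, cS, Finset.sum_ite_mem,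
          Finset.sum_const, s2 p p3]
        simp only [nsmul_eq_mul, Nat.cast_ofNat]
        omega
    · rcases ip_four hy (p := none) (by rw [show (y : Vec) none = 4 by omega]; rfl) hr r3 (by decide) with q | ⟨_, -, q, rfl⟩
      · exact absurd h4.symm.2.2 q
      · rw [Int.abs_eq_natAbs] at q; omega
  · have r4 : |(r' : Vec) (some 0)| = 4 := by rw [b]; rfl
    rcases h with h | h
    · rcases ip_four hr r4 hy (q := none) (by rw [show (y : Vec) none = 3 by omega]; rfl) (by decide) with q | ⟨_, -, q, rfl⟩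
      · exact absurd h4.2.2 q
      · rw [a] at q; exact absurd q (by decide)
    · obtain ⟨m, m1, m2, m3⟩ := caseF hr (p := some 0) r4 (by simp [a, c])
      refine ⟨m, m1, m3 y h3.1 (by omega) fun i hi => ?_, m2, m3 r' h2.2.1 c fun _ _ => rfl⟩
      obtain ⟨q, q1, q2, q3⟩ := shape32_four u (p := none) (by rw [uv, show (y : Vec) none = 4 by omega, a]; rfl)
      obtain rfl : some 0 = q := by
        by_contra n
        have := q3 _ (by decide) n
        rw [uv] at this; omega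
      exact sub_eq_zero.1 (q3 i (fun e => hi (by simp [e])) fun e => hi (by simp [e]))

theorem back {k : Co0} (hk : k • v1 = v1) {m : Λ} (h : adjD m (k • x)) : adjD (k⁻¹ • m) x :=
  inv_smul_smul k x ▸ h.smul (inv_smul_eq_iff.2 hk.symm)

theorem back' {k : Co0} (hk : k • v1 = v1) (h : adjD (k • x) (k • y)) : adjD x y :=
  inv_smul_smul k x ▸ back hk h

end LatAux

open LatAux

theorem lat1 (h : adjD y y') (hx : x ∈ DS) (h1 : ip x y = 8 ∨ ip x y = 0) (h2 : ip x y' = 8 ∨ ip x y' = 0) :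
    ∃ r, adjD r x ∧ adjD r y ∧ adjD r y' := by
  obtain ⟨k, a, b, c⟩ := h.std
  obtain ⟨m, m1, m2, m3⟩ := lat1s (DS_smul hx a) (by rwa [← b, ip_smul]) (by rwa [← c, ip_smul])
  exact ⟨k⁻¹ • m, back a m3, back a (b ▸ m1), back a (c ▸ m2)⟩

theorem lat2 (h1 : adjD x r) (h2 : adjD x r') (h3 : adjD y r) (h4 : adjD y r') (h : ip x y = 8 ∨ ip x y = 0) :
    r = r' ∨ adjD r r' ∨ ∃ m, adjD m x ∧ adjD m y ∧ adjD m r ∧ adjD m r' := by
  obtain ⟨k, a, b, c⟩ := h1.std
  rcases lat2s (b ▸ h2.smul a) (c ▸ h3.smul a) (h4.smul a) (by rwa [← b, ip_smul]) with e | e | ⟨m, m1, m2, m3, m4⟩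
  · exact Or.inl (smul_left_cancel k (c.trans e))
  · exact Or.inr (Or.inl (back' a (c ▸ e)))
  · exact Or.inr (Or.inr ⟨k⁻¹ • m, back a (b ▸ m1), back a m2, back a (c ▸ m3), back a m4⟩)

theorem lat3 (h1 : adjD w y) (h2 : adjD w y') : y = y' ∨ adjD y y' ∨ ∃ m, adjD m w ∧ adjD m y ∧ adjD m y' := by
  obtain ⟨k, a, b, c⟩ := h1.std
  rcases lat3s (b ▸ h2.smul a) with e | e | ⟨m, m1, m2, m3⟩
  · exact Or.inl (smul_left_cancel k (c.trans e))
  · exact Or.inr (Or.inl (back' a (c ▸ e)))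
  · exact Or.inr (Or.inr ⟨k⁻¹ • m, back a (b ▸ m1), back a (c ▸ m2), back a m3⟩)

end Cfsg.Agent.B43
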