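import Mathlib
import Cfsg.Agent.B43.Lat

/-! The graph on 4600 vectors is simply connected. -/

set_option autoImplicit false

namespace Cfsg.Agent.B43

open Subgroup Matrix Cfsg.Agent.Spor Cfsg.Agent.Spor.Leech Cfsg.Agent.Gr Cfsg.Agent.Gr6B

namespace SCDAux

variable {x y : Λ}

/-- Distance two. -/
def Mid (x y : Λ) : Prop := ip x y = 8 ∨ ip x y = 0

theorem ip_opp (hy : y ∈ DS) : ip (v1 - x) y = 16 - ip x y := by rw [ip_sub_left, ip_comm v1, hy.2]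

theorem opp_mem (hx : x ∈ DS) : v1 - x ∈ DS :=
  ⟨by rw [nm_sub, nm_v1, hx.1, ip_comm, hx.2]; rfl, by rw [ip_sub_left, ip_self, nm_v1, hx.2]; rfl⟩

theorem mid_of (h : adjD (v1 - x) y) : Mid x y := Or.inr (by have := h.2.2; rw [ip_opp h.2.1] at this; omega)

theorem ip_le (hx : x ∈ DS) (hy : y ∈ DS) (n : y ≠ x) : ip x y ≤ 16 := by
  have a := le_nm (sub_ne_zero.2 n.symm)
  rw [nm_sub, hx.1, hy.1] at a
  omega

theorem cases (hx : x ∈ DS) (hy : y ∈ DS) : y = x ∨ adjD x y ∨ Mid x y ∨ y = v1 - x := by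
  by_contra n
  simp only [not_or, Mid] at n
  have a := ip_le hx hy n.1
  have b := ip_le (opp_mem hx) hy n.2.2.2
  have c := eight_dvd_ip x y
  rw [ip_opp hy] at b
  exact n.2.1 ⟨hx, hy, by omega⟩

theorem ex_mid (hx : x ∈ DS) (hy : y ∈ DS) (h : Mid x y) : ∃ r, adjD r x ∧ adjD r y := by
  rcases h with h | h
  · obtain ⟨w, a, b, c, d⟩ := Gr.exists_common nm_v1 hx.1 hy.1 ((ip_comm _ _).trans hx.2) ((ip_comm _ _).trans hy.2) h
    exact ⟨w, ⟨⟨a, b⟩, hx, c⟩, ⟨a, b⟩, hy, d⟩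
  obtain ⟨k, a, b, c⟩ := adjD.std ⟨opp_mem hx, hy, by rw [ip_opp hy, h]; rfl⟩
  have m : v44 none (some 2) 1 1 ∈ DS := ⟨nm_v44 (by decide) _ _, by
    rw [TriV.ip_v1]; simp [v44_apply, show (0 : ZMod 23) ≠ 2 by decide]⟩
  rw [smul_sub, a, sub_eq_iff_eq_add, ← sub_eq_iff_eq_add'] at b
  refine ⟨k⁻¹ • v44 none (some 2) 1 1, LatAux.back a ⟨m, DS_smul hx a, ?_⟩, LatAux.back a ⟨m, DS_smul hy a, ?_⟩⟩
  · rw [← b, ip_sub_right, m.2, TriV.ip_v2]
    simp [v44_apply, show (0 : ZMod 23) ≠ 2 by decide, show (1 : ZMod 23) ≠ 2 by decide]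
  · rw [c, ip_y1]; simp [v44_apply, show (1 : ZMod 23) ≠ 2 by decide]

variable {Y : Type*} {p : Y → Λ} {A : Y → Y → Prop} {a b b' c c' d d' e : Y}

def B2 (p : Y → Λ) (A : Y → Y → Prop) (a c : Y) : Prop := (∃ b, A a b ∧ A b c) ∧ Mid (p a) (p c)

def B3 (p : Y → Λ) (A : Y → Y → Prop) (a d : Y) : Prop := p d = v1 - p a ∧ ∃ c, B2 p A a c ∧ A c d

variable (h : IsCov DS adjD (fun _ b c => adjD b c) p A)
include h

theorem one (h1 : A a b) (h2 : A b c) (k1 : A a b') (k2 : A b' c') (e : p c = p c') (t : adjD (p b) (p b')) : c = c' :=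
  h.uniq b' _ _ (h.tri b _ _ (h.tri a _ _ h1 k1 t) h2 (e ▸ h.map _ _ k2)) k2 e

theorem inj2 (h1 : B2 p A a c) (h2 : B2 p A a c') (e : p c = p c') : c = c' := by
  obtain ⟨⟨b, p1, p2⟩, m⟩ := h1
  obtain ⟨⟨b', q1, q2⟩, -⟩ := h2
  rcases lat2 (h.map _ _ p1) (h.map _ _ q1) (h.map _ _ p2).symm (e ▸ (h.map _ _ q2).symm) m with t | t | ⟨r, t1, t2, t3, t4⟩
  · obtain rfl := h.uniq a _ _ p1 q1 t
    exact h.uniq b _ _ p2 q2 e
  · exact one h p1 p2 q1 q2 e t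
  · obtain ⟨u, u1, rfl⟩ := h.lift a r t1.symm
    obtain ⟨w, w1, w2⟩ := h.lift u _ t2
    exact (one h p1 p2 u1 w1 w2.symm t3.symm).trans (one h u1 w1 q1 q2 (w2.trans e) t4)

theorem up (h1 : B2 p A a c) (k : A a b) (t : adjD (p b) (p c)) : A b c := by
  obtain ⟨w, w1, w2⟩ := h.lift b _ t
  exact inj2 h ⟨⟨b, k, w1⟩, w2 ▸ h1.2⟩ h1 w2 ▸ w1

theorem to1 (h1 : B2 p A a c) (k : A c d) (t : adjD (p a) (p d)) : A a d := by
  obtain ⟨u, u1, u2⟩ := h.lift a _ t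
  exact h.uniq c _ _ (h.symm _ _ (up h h1 u1 (u2 ▸ (h.map _ _ k).symm))) k u2 ▸ u1

theorem to2 (h1 : B2 p A a c) (k : A c d) (t : Mid (p a) (p d)) : B2 p A a d := by
  obtain ⟨r, r1, r2, r3⟩ := lat1 (h.map _ _ k) (h.mem a) h1.2 t
  obtain ⟨u, u1, rfl⟩ := h.lift a r r1.symm
  exact ⟨⟨u, u1, h.tri c _ _ (h.symm _ _ (up h h1 u1 r2)) k r3⟩, t⟩

theorem two (h1 : B2 p A a c) (h2 : B2 p A a c') (k1 : A c d) (k2 : A c' d') (e : p d = p d') (t : adjD (p c) (p c')) :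
    d = d' := by
  obtain ⟨w, w1, w2⟩ := h.lift c _ t
  obtain rfl := inj2 h (to2 h h1 w1 (w2 ▸ h2.2)) h2 w2
  exact h.uniq w _ _ (h.tri c _ _ w1 k1 (e ▸ h.map _ _ k2)) k2 e

theorem inj3 (h1 : B3 p A a d) (h2 : B3 p A a d') : d = d' := by
  obtain ⟨e1, c, p1, p2⟩ := h1
  obtain ⟨e2, c', q1, q2⟩ := h2
  have e := e1.trans e2.symm
  rcases lat3 (h.map _ _ p2).symm (e ▸ (h.map _ _ q2).symm) with t | t | ⟨r, t1, t2, t3⟩
  · obtain rfl := inj2 h p1 q1 t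
    exact h.uniq c _ _ p2 q2 e
  · exact two h p1 q1 p2 q2 e t
  · obtain ⟨u, u1, rfl⟩ := h.lift c r t2.symm
    obtain ⟨w, w1, w2⟩ := h.lift u _ t1
    have m := to2 h p1 u1 (mid_of (e1 ▸ t1.symm))
    exact (two h p1 m p2 w1 w2.symm t2.symm).trans (two h m q1 w1 q2 (w2.trans e) t3)

theorem from3 (h1 : B3 p A a d) (k : A d e) : B2 p A a e := by
  have t := h.map _ _ k
  have m := mid_of (h1.1 ▸ t)
  obtain ⟨r, r1, r2⟩ := ex_mid (h.mem a) (h.mem e) m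
  obtain ⟨u, u1, rfl⟩ := h.lift a r r1.symm
  obtain ⟨w, w1, w2⟩ := h.lift u _ r2
  have b : B2 p A a w := ⟨⟨u, u1, w1⟩, w2 ▸ m⟩
  obtain ⟨z, z1, z2⟩ := h.lift w (p d) (w2 ▸ t.symm)
  obtain rfl := inj3 h ⟨z2.trans h1.1, w, b, z1⟩ h1
  exact h.uniq z _ _ (h.symm _ _ z1) k w2 ▸ b

theorem all (a b : Y) : b = a ∨ A a b ∨ B2 p A a b ∨ B3 p A a b := by
  induction h.conn a b with
  | refl => exact Or.inl rfl
  | @tail b c _ k ih =>
    have t := h.map _ _ k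
    rcases ih with rfl | q | q | q
    · exact Or.inr (Or.inl k)
    · rcases cases (h.mem a) (h.mem c) with e | e | e | e
      · exact Or.inl (h.uniq b _ _ k (h.symm _ _ q) e)
      · exact Or.inr (Or.inl (h.tri b _ _ (h.symm _ _ q) k e))
      · exact Or.inr (Or.inr (Or.inl ⟨⟨b, q, k⟩, e⟩))
      · have := mid_of (e ▸ t.symm)
        rw [Mid, (h.map _ _ q).2.2] at this
        omega
    · rcases cases (h.mem a) (h.mem c) with e | e | e | e
      · have := q.2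
        rw [Mid, ← e, t.symm.2.2] at this
        omega
      · exact Or.inr (Or.inl (to1 h q k e))
      · exact Or.inr (Or.inr (Or.inl (to2 h q k e)))
      · exact Or.inr (Or.inr (Or.inr ⟨e, b, q, k⟩))
    · exact Or.inr (Or.inr (Or.inl (from3 h q k)))

end SCDAux

open SCDAux

theorem connD {x : Λ} (hx : x ∈ DS) : Relation.ReflTransGen adjD v2 x := by
  have k : ∀ {y}, y ∈ DS → Mid v2 y → Relation.ReflTransGen adjD v2 y := fun hy m =>
    let ⟨_, a, b⟩ := ex_mid adj_v2_y1.1 hy m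
    (Relation.ReflTransGen.single a.symm).tail b
  rcases cases adj_v2_y1.1 hx with rfl | e | e | rfl
  · exact .refl
  · exact .single e
  · exact k hx e
  · have m := opp_mem adj_v2_y1.2.1
    have a : adjD (v1 - v2) (v1 - y1) := ⟨hx, m, by
      rw [ip_opp m, ip_sub_right, adj_v2_y1.1.2, adj_v2_y1.2.2]; rfl⟩
    exact (k m (mid_of a)).tail a.symm

theorem scD {Y : Type*} {p : Y → Λ} {A : Y → Y → Prop} (h : IsCov DS adjD (fun _ b c => adjD b c) p A) :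
    Function.Injective p := fun a b e => by
  have s : ip (p a) (p b) = 32 := by rw [← e, ip_self, (h.mem a).1]
  rcases all h a b with q | q | q | q
  · exact q.symm
  · rw [(h.map _ _ q).2.2] at s; omega
  · have := q.2
    rw [Mid] at this; omega
  · have := ip_opp (x := p a) (h.mem b)
    rw [← q.1, ip_self, (h.mem b).1] at this; omega

end Cfsg.Agent.B43
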