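import Mathlib
import Cfsg.Agent.B43.Pf
import Cfsg.Agent.B43.Gra
import Cfsg.Agent.B43.SCD

/-! The level of the second Conway group. -/

set_option autoImplicit false

namespace Cfsg.Agent.B43

open Subgroup Matrix Cfsg.Agent.Spor Cfsg.Agent.Spor.Leech Cfsg.Agent.Gr Cfsg.Agent.Gr6B

universe u

variable {F G V : Type*} [Field F] [Group G] [Finite G] [AddCommGroup V] [DistribMulAction G V]
  {s : G →* Co0} {j : V →+ (Pt → F)}

namespace Co2Aux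

variable {D : Subgroup G} {T : Finset Pt}

theorem dv (hV : Chr V (ringChar F)) {n : ℕ} (h : (n : F) ≠ 0) : Dv V n :=
  hV n fun e => h ((ringChar.spec F n).2 e)

theorem dv_card (h : CoH s j) (h2 : (2 : F) ≠ 0) (hV : Chr V (ringChar F)) :
    Dv V (Nat.card (D ⊓ (RT T).comap s : Subgroup G)) := by
  have := Fact.mk Nat.prime_two
  obtain ⟨n, hn⟩ := IsPGroup.iff_card.1 (((RT_two T).comap_of_ker_isPGroup s h.two).to_inf_right (H := D))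
  exact dv hV (by rw [hn]; exact_mod_cast pow_ne_zero n h2)

omit [Finite G] in
theorem eq_of (h : CoH s j) {v : V} (hv : Fx s.ker v) {g : G} (e : mF F (s g) *ᵥ j v = j v) :
    g • v = v :=
  sub_eq_zero.1 (h.inj _ ((hv.smul fun r hr => by
    simpa using (inferInstance : s.ker.Normal).conj_mem r hr g⁻¹).sub hv)
    (by rw [map_sub, h.eqv g v hv, e, sub_self]))

omit [Finite G] in
theorem off (h : CoH s j) (h2 : (2 : F) ≠ 0) (h4 : T.card ≤ 4) (d2 : ∀ k ∈ MT T, ∃ g ∈ D, s g = k)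
    (d3 : ∀ ξ : V, Fx (D ⊓ s.ker) ξ → Fx s.ker ξ) {v : V} (hv : Fx (D ⊓ (RT T).comap s) v) :
    Fx s.ker v ∧ ∀ i ∉ T, j v i = 0 := by
  have h1 := d3 v (hv.mono (inf_le_inf_left D (ker_le_comap s _)))
  refine ⟨h1, fix_RT h2 h4 fun r hr => ?_⟩
  obtain ⟨g, hg, rfl⟩ := d2 r (RT_le T hr)
  rw [← h.eqv g v h1, hv g ⟨hg, hr⟩]

omit [Finite G] in
theorem fx (h : CoH s j) (h2 : (2 : F) ≠ 0) (h4 : T.card ≤ 4) (d2 : ∀ k ∈ MT T, ∃ g ∈ D, s g = k)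
    (d3 : ∀ ξ : V, Fx (D ⊓ s.ker) ξ → Fx s.ker ξ) (v : V) (hv : Fx (D ⊓ (RT T).comap s) v) :
    Fx (D ⊓ (MT T).comap s) v := fun _ hg =>
  let ⟨a, b⟩ := off h h2 h4 d2 d3 hv
  eq_of h a (MT_fix h2 b hg.2)

omit [Finite G] in
theorem map_eq {M : Subgroup Co0} (d2 : ∀ k ∈ M, ∃ g ∈ D, s g = k) : (D ⊓ M.comap s).map s = M :=
  le_antisymm (by rintro _ ⟨g, hg, rfl⟩; exact hg.2) fun k hk =>
    let ⟨g, hg, e⟩ := d2 k hk; ⟨g, ⟨hg, by rwa [← e] at hk⟩, e⟩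

omit [Finite G] in
theorem pf (h1 : T.Nonempty) (h3 : T.card ≤ 3) (d2 : ∀ k ∈ MT T, ∃ g ∈ D, s g = k) :
    D ⊓ (MT T).comap s ≤ ⁅D ⊓ (MT T).comap s, D ⊓ (MT T).comap s⁆ ⊔ D ⊓ (RT T).comap s := fun g hg => by
  have := MT_perf h1 h3 hg.2
  rw [← map_eq d2, ← map_eq (M := RT T) fun k hk => d2 k (RT_le T hk), ← map_commutator,
    ← Subgroup.map_sup] at this
  obtain ⟨g', hg', e⟩ := this
  have h4 : ⁅D ⊓ (MT T).comap s, D ⊓ (MT T).comap s⁆ ⊔ D ⊓ (RT T).comap s ≤ D :=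
    sup_le (commutator_le.2 fun a ha b hb =>
      mul_mem (mul_mem (mul_mem ha.1 hb.1) (D.inv_mem ha.1)) (D.inv_mem hb.1)) inf_le_left
  have h5 := h4 hg'
  rw [← mul_inv_cancel_left g' g]
  exact mul_mem hg' (mem_sup_right ⟨D.mul_mem (D.inv_mem h5) hg.1, ker_le_comap s _ (by
    rw [MonoidHom.mem_ker, map_mul, map_inv, e, inv_mul_cancel])⟩)

omit [Finite G] in
theorem nrm (h1 : T.Nonempty) : ∀ g ∈ D ⊓ (MT T).comap s, ∀ r ∈ D ⊓ (RT T).comap s,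
    g * r * g⁻¹ ∈ D ⊓ (RT T).comap s := fun g hg r hr =>
  mem_inf.2 ⟨mul_mem (mul_mem hg.1 hr.1) (D.inv_mem hg.1), by
    rw [mem_comap, map_mul, map_mul, map_inv]; exact RT_norm h1 _ hg.2 _ hr.2⟩

theorem h1z (h : CoH s j) (h2 : (2 : F) ≠ 0) (hV : Chr V (ringChar F)) (h1 : T.Nonempty) (h3 : T.card ≤ 3)
    (d2 : ∀ k ∈ MT T, ∃ g ∈ D, s g = k) (d3 : ∀ ξ : V, Fx (D ⊓ s.ker) ξ → Fx s.ker ξ) :
    H1z V (D ⊓ (MT T).comap s) :=
  h1z_perf (inf_le_inf_left D (comap_mono (RT_le T))) (nrm h1) (dv_card h h2 hV)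
    (fx h h2 (by omega) d2 d3) (pf h1 h3 d2)

theorem spl (h : CoH s j) (h2 : (2 : F) ≠ 0) (h3' : (3 : F) ≠ 0) (hV : Chr V (ringChar F))
    (h1 : T.Nonempty) (h3 : T.card ≤ 3) (d : ∀ k ∈ MT T, k • v1 = v1) :
    Splits.{u} V ((MT T).comap s) := by
  have d2 : ∀ k ∈ MT T, ∃ g ∈ (⊤ : Subgroup G), s g = k := fun k hk =>
    let ⟨g, e⟩ := h.surj k (d k hk); ⟨g, mem_top g, e⟩
  have hp := (CharP.char_is_prime_or_zero F (ringChar F)).symm
  rw [← top_inf_eq ((MT T).comap s)]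
  refine splits_perf hp hV (inf_le_inf_left ⊤ (comap_mono (RT_le T))) (nrm h1) (dv_card h h2 hV)
    (fx h h2 (by omega) d2 fun ξ => by rw [top_inf_eq]; exact id) (pf h1 h3 d2) fun hc => ?_
  rcases hp with hp | hp
  · rw [hp, zero_pow two_ne_zero, zero_dvd_iff] at hc
    exact FiniteIndex.index_ne_zero hc
  rw [top_inf_eq, relIndex_comap, map_eq d2] at hc
  refine MT_card h1 hp (hp.five_le_of_ne_two_of_ne_three (fun e => h2 ?_) fun e => h3' ?_)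
    (hc.trans (relIndex_dvd_card _ _))
  · exact_mod_cast (ringChar.spec F 2).2 (e ▸ dvd_rfl)
  · exact_mod_cast (ringChar.spec F 3).2 (e ▸ dvd_rfl)

end Co2Aux

open Co2Aux

theorem CoH.splits (h : CoH s j) (h2 : (2 : F) ≠ 0) (h3 : (3 : F) ≠ 0) (hV : Chr V (ringChar F)) :
    Splits.{u} V (⊤ : Subgroup G) := by
  by_cases h11 : (11 : F) = 0
  · refine (spl h h2 h3 hV (T := T2) (by simp) (by decide) fun k hk => (mem_MT2.1 hk).1).up le_top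
      (dv hV fun e => h2 ?_)
    rw [relIndex_comap, show (⊤ : Subgroup G).map s = MulAction.stabilizer Co0 v1 from le_antisymm
      (by rintro _ ⟨g, -, rfl⟩; exact h.fix g)
      fun k hk => let ⟨g, e⟩ := h.surj k hk; ⟨g, mem_top g, e⟩, idx2] at e
    push_cast at e
    linear_combination e - 8468 * h11
  let act := (MulAction.toPermHom Co0 Λ).comp s
  have e3 : St act v2 ⊓ St act y1 = (MT T3).comap s := ext fun g =>
    ⟨fun k => mem_MT3.2 ⟨h.fix g, k⟩, fun k => (mem_MT3.1 k).2⟩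
  have d : ∀ k ∈ MT T3, k • v1 = v1 := fun k hk => (mem_MT3.1 hk).1
  refine splits_graph act DS adjD v2 y1 scD (fun g => DS_smul adj_v2_y1.1 (h.fix g))
    (fun g x y k => k.smul (h.fix g)) adj_v2_y1 (fun g => connD (DS_smul adj_v2_y1.1 (h.fix g)))
    (fun y hy => ?_) ?_ (fun z k1 k2 => ?_) (dv hV (by exact_mod_cast h2)) ?_ ?_
  · obtain ⟨k, a, b⟩ := trans_edge adj_v2_y1 hy
    obtain ⟨g, rfl⟩ := h.surj k a
    exact ⟨g, b⟩
  · obtain ⟨k, a, b⟩ := trans_edge adj_v2_y1 adj_v2_y1.symm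
    obtain ⟨g, rfl⟩ := h.surj k a
    exact ⟨g, b⟩
  · obtain ⟨t, ht⟩ := trans_tri adj_v2_y1 k1 k2 k1 adj_v2_y1 k2.symm
    obtain ⟨r, hr⟩ := trans_tri adj_v2_y1 k1 k2 adj_v2_y1.symm k2 k1
    obtain ⟨t, rfl⟩ := h.surj t ht.1
    obtain ⟨r, rfl⟩ := h.surj r hr.1
    refine ⟨t, r, ht.2, hr.2, fun a ha hc => ?_⟩
    have hk : ∀ g, s g • v2 = v2 → s g • y1 = y1 → s g • z = z → g • a = a := fun g b c d =>
      ha g ⟨⟨b, c⟩, d⟩
    have h0 : Fx s.ker a := fun g hg => by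
      have : s g = 1 := hg
      exact hk g (by rw [this, one_smul]) (by rw [this, one_smul]) (by rw [this, one_smul])
    refine eq_of h h0 (fix_tri h2 k1 k2 ht hr (fun g b c d e => ?_) ?_)
    · obtain ⟨g, rfl⟩ := h.surj g b
      rw [← h.eqv g a h0, hk g c d e]
    · rw [← map_mul, ← h.eqv _ a h0, hc]
  · refine (spl h h2 h3 hV (T := T3) (by simp) (by decide) d).up (e3 ▸ inf_le_left) (dv hV ?_)
    rw [relIndex_comap, show (St act v2).map s = MulAction.stabilizer Co0 v1 ⊓ MulAction.stabilizer Co0 v2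
      from le_antisymm (by rintro _ ⟨g, hg, rfl⟩; exact ⟨h.fix g, hg⟩) fun k hk => by
        obtain ⟨g, rfl⟩ := h.surj k hk.1
        exact ⟨g, hk.2, rfl⟩, idx3, show ((891 : ℕ) : F) = 3 ^ 4 * 11 by norm_num]
    exact mul_ne_zero (pow_ne_zero _ h3) h11
  · rw [e3, ← top_inf_eq ((MT T3).comap s)]
    exact h1z h h2 hV (by simp) (by decide)
      (fun k hk => let ⟨g, e⟩ := h.surj k (d k hk); ⟨g, mem_top g, e⟩)
      fun ξ => by rw [top_inf_eq]; exact id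

theorem CoH.h1 (h : CoH s j) (h2 : (2 : F) ≠ 0) (hV : Chr V (ringChar F)) {D : Subgroup G}
    (d1 : ∀ g ∈ D, s g • u0 = u0 ∨ s g • u0 = -u0)
    (d2 : ∀ k : Co0, k • v1 = v1 → k • u0 = u0 ∨ k • u0 = -u0 → ∃ g ∈ D, s g = k)
    (d3 : ∀ ξ : V, Fx (D ⊓ s.ker) ξ → Fx s.ker ξ) : H1z V D ∧ ∀ ξ : V, Fx D ξ → ξ = 0 := by
  have d : ∀ k ∈ MT T2, ∃ g ∈ D, s g = k := fun k hk => d2 k (mem_MT2.1 hk).1 (.inl (mem_MT2.1 hk).2)
  obtain ⟨k, k1, k2⟩ := ex_neg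
  obtain ⟨g, hg, rfl⟩ := d2 k k1 (.inr k2)
  have m : ∀ x ∈ D, x ∈ D ⊓ (MT T2).comap s ↔ s x • u0 = u0 := fun x hx =>
    ⟨fun k => (mem_MT2.1 k.2).2, fun k => ⟨hx, mem_MT2.2 ⟨h.fix x, k⟩⟩⟩
  have ne : u0 ≠ -u0 := fun e => absurd (congrArg (fun v : Λ => (v : Vec) none) e) (by decide)
  refine ⟨(h1z h h2 hV (by simp) (by decide) d d3).up inf_le_left (dv hV ?_), fun ξ hξ => ?_⟩
  · rw [show (D ⊓ (MT T2).comap s).relIndex D = 2 from index_eq_two_iff.2 ⟨⟨g, hg⟩, fun b => by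
      rw [mem_subgroupOf, mem_subgroupOf, m _ (b * ⟨g, hg⟩).2, m _ b.2, coe_mul, map_mul, mul_smul, k2,
        smul_neg]
      rcases d1 b b.2 with e | e <;> rw [e]
      · exact .inr ⟨rfl, ne.symm⟩
      · exact .inl ⟨neg_neg _, ne.symm⟩⟩]
    exact_mod_cast h2
  · obtain ⟨a, b⟩ := off h h2 (by decide) d d3 (hξ.mono inf_le_left)
    obtain ⟨c, hc⟩ := eq_u0 h2 b (h.perp ξ a)
    have := h.eqv g ξ a
    rw [hξ g hg, hc, mulVec_smul, mF_cF h2, k2, map_neg, smul_neg, ← hc, ← add_eq_zero_iff_eq_neg,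
      ← two_smul F, smul_eq_zero] at this
    exact h.inj ξ a (this.resolve_left h2)

end Cfsg.Agent.B43
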