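import Mathlib
import Cfsg.Agent.B43.Defs
import Cfsg.Agent.Gr.R4.Ym
import Cfsg.Agent.Gr.R4.SphA

/-! A module of dimension 23 for the second Conway group with the right weight embeds in `v1^⊥`. -/

set_option autoImplicit false

namespace Cfsg.Agent.B43.F1Aux

open Subgroup Matrix Module Cfsg.Agent.Spor Cfsg.Agent.Spor.Leech Cfsg.Agent.Gr Cfsg.Agent.Gr.R4 Cfsg.Agent.Gr.Rk
  Cfsg.Agent.Gr.Am Cfsg.Agent.Gr.TriV

variable {F : Type*} [Field F] {Y : Type*} [AddCommGroup Y] [Module F Y] {T : S1 →* End F Y}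

theorem dual_ap (T : S1 →* End F Y) (g : S1) (φ : Dual F Y) (u : Y) :
    Representation.dual T g φ u = φ (T g⁻¹ u) := rfl

/-- A sign change fixing `v1`. -/
noncomputable def sS (d : Cd) (hd : En d) : S1 := ⟨sgC d, hd.v1⟩

theorem sS_mul (d : Cd) (hd : En d) : sS d hd * sS d hd = 1 := Subtype.ext (sgC_mul_self d)

theorem sS_inv (d : Cd) (hd : En d) : (sS d hd)⁻¹ = sS d hd := inv_eq_of_mul_eq_one_right (sS_mul d hd)

theorem mem_Y {χ : Cd → ZMod 2} {u : Y} : u ∈ Yw T χ ↔ ∀ d hd, T (sS d hd) u = sg F (χ d) • u := mem_Yw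

theorem dual_Yw {χ : Cd → ZMod 2} {φ : Dual F Y} : φ ∈ Yw (Representation.dual T) χ ↔
    ∀ d hd u, φ (T (sS d hd) u) = sg F (χ d) * φ u := by
  rw [mem_Y]
  refine forall₂_congr fun d hd => LinearMap.ext_iff.trans (forall_congr' fun u => ?_)
  rw [dual_ap, sS_inv]; rfl

theorem pair_zero (h2 : (2 : F) ≠ 0) {χ ψ : Cd → ZMod 2} {φ : Dual F Y} {u : Y}
    (h1 : φ ∈ Yw (Representation.dual T) χ) (h : u ∈ Yw T ψ) {d : Cd} (hd : En d) (n : χ d ≠ ψ d) : φ u = 0 := by
  have := dual_Yw.1 h1 d hd u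
  rw [mem_Y.1 h d hd, map_smul, smul_eq_mul] at this
  exact (mul_eq_mul_right_iff.1 this).resolve_left fun e => n (sg_inj h2 e).symm

theorem sS_comm (a b : Cd) (ha : En a) (hb : En b) : Commute (sS a ha) (sS b hb) :=
  Subtype.ext (show sgC a * sgC b = sgC b * sgC a by rw [← sgC_add, ← sgC_add, add_comm])

theorem dual_ne (h2 : (2 : F) ≠ 0) {χ : Cd → ZMod 2} (h : Yw T χ ≠ ⊥) : Yw (Representation.dual T) χ ≠ ⊥ := fun k => by
  obtain ⟨u, hu, u0⟩ := Submodule.exists_mem_ne_zero_of_ne_bot h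
  have : (⊤ : Submodule F (Dual F Y)) ≤ LinearMap.ker (Dual.eval F Y u) := by
    refine le_of_eig h2 (fun d : {d // En d} => Representation.dual T (sS d d.2)) (fun _ _ _ => trivial)
      (fun d φ _ => ?_) (fun a b φ _ => ap_comm _ (sS_comm _ _ _ _) φ) fun φ _ n ψ hψ => ?_
    · rw [← ap_mul, sS_mul, map_one]; rfl
    · by_contra q
      refine n (k.le (mem_Y.2 fun d hd => ?_))
      have := LinearMap.congr_fun (hψ ⟨d, hd⟩) u
      rw [dual_ap, sS_inv, mem_Y.1 hu d hd, map_smul, LinearMap.smul_apply] at this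
      rw [hψ ⟨d, hd⟩, (mul_eq_mul_right_iff.1 this).resolve_right q]
  exact u0 ((forall_dual_apply_eq_zero_iff F u).1 fun φ => this trivial)

theorem ipP (i : Pt) (s : ℤˣ) (x : Λ) :
    ip x (v44 i (some 0) s (-1)) = 4 * (s * (x : Vec) i - (x : Vec) (some 0)) := by
  rw [ip_v44]; simp [sub_eq_add_neg]

theorem nmS (k : S1) : nm (k.1 • v2) = 32 := by rw [nm_smul, nm_v2]

theorem ipS (k : S1) : ip (k.1 • v2) v1 = 16 := by
  conv_lhs => rw [← show k.1 • v1 = v1 from k.2]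
  rw [ip_smul, ip_comm, ip_v1_v2]

theorem exS {x : Λ} (hx : nm x = 32) (h : ip x v1 = 16) : ∃ k : S1, k.1 • v2 = x :=
  let ⟨g, a, b⟩ := trans_pair nm_v1 nm_v2 nm_v1 hx (by rw [ip_v1_v2, ip_comm, h])
  ⟨⟨g, a⟩, b⟩

/-- The two neighbours of `v1` on the points `i, 0`. -/
def pm (i : Pt) (s : ℤˣ) : Λ := v44 i (some 0) s (-1)

theorem exP {i : Pt} (h : i ≠ none) (h' : i ≠ some 0) (s : ℤˣ) : ∃ k : S1, k.1 • v2 = pm i s :=
  exS (nm_v44 h' _ _) (by rw [ip_v1]; simp [pm, v44_apply, h.symm, h'.symm])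

theorem sph (h2 : (2 : F) ≠ 0) {w : Y} {f : Dual F Y} (wU : ∀ g : S1, g.1 • v2 = v2 → T g w = w)
    (fU : ∀ g : S1, g.1 • v2 = v2 → ∀ u, f (T g u) = f u) {g0 : S1} (g1 : g0.1 • v2 = v1 - v2) (g2 : T g0 w = -w)
    {a b c : S1} (ha : a.1 • v2 = pm (some 1) (-1)) (hb : b.1 • v2 = pm (some 2) 1) (hc : c.1 • v2 = pm (some 2) (-1))
    (rel : w + T a w = T b w + T c w) :
    ∃ β : F, ∀ k : S1, 8 * f (T k w) = β * ((ip (k.1 • v2) v2 : ℤ) - 8) := by
  have p1 : ∀ k l : S1, k.1 • v2 = l.1 • v2 → T k w = T l w := fun k l e => by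
    rw [← mul_inv_cancel_left l k, ap_mul, ap_mul, ← ap_mul T l⁻¹, wU _ (by
      rw [coe_mul, mul_smul, e, ← mul_smul, ← coe_mul, inv_mul_cancel, coe_one, one_smul])]
  have p2 : ∀ k : S1, (k * g0).1 • v2 = v1 - k.1 • v2 ∧ f (T (k * g0) w) = -f (T k w) := fun k =>
    ⟨by rw [coe_mul, mul_smul, g1, smul_sub, show k.1 • v1 = v1 from k.2], by rw [ap_mul, g2, map_neg, map_neg]⟩
  have p3 : ∀ (k l : S1) (h : Co0), h ∈ UU → h • k.1 • v2 = l.1 • v2 → f (T k w) = f (T l w) := fun k l h hh e => by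
    rw [← p1 (⟨h, hh.1⟩ * k) l (by rw [coe_mul, mul_smul, e]), ap_mul, fU ⟨h, hh.1⟩ hh.2]
  obtain ⟨k0, hk0⟩ := exS nm_x0 (by rw [ip_v1]; simp [x0, v44_apply, z01])
  have s16 : ∀ k : S1, ip (k.1 • v2) v2 = 16 → f (T k w) = f (T k0 w) := fun k e => by
    obtain ⟨h, -, hh, q⟩ := tr891 (X := ⊤) trivial (fun _ _ _ _ _ => trivial) (nmS k) (ip_comm _ _ ▸ ipS k)
      (ip_comm _ _ ▸ e)
    exact p3 k k0 h hh (q.trans hk0.symm)
  have sub : ∀ k : S1, ip (v1 - k.1 • v2) v2 = 16 - ip (k.1 • v2) v2 := fun k => by rw [ip_sub_left, ip_v1_v2]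
  have s0 : ∀ k : S1, ip (k.1 • v2) v2 = 0 → f (T k w) = -f (T k0 w) := fun k e => by
    rw [← s16 (k * g0) (by rw [(p2 k).1, sub, e]; rfl), (p2 k).2, neg_neg]
  have s1 : f w = 3 * f (T k0 w) := by
    have := congrArg f rel
    rw [map_add, map_add, s0 a (by rw [ha, ip_v2, pm, v44_apply, v44_apply]; decide),
      s16 b (by rw [hb, ip_v2, pm, v44_apply, v44_apply]; decide),
      s16 c (by rw [hc, ip_v2, pm, v44_apply, v44_apply]; decide)] at this
    linear_combination this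
  have s32 : ∀ k : S1, k.1 • v2 = v2 → f (T k w) = 3 * f (T k0 w) := fun k e => by rw [wU k e, s1]
  refine ⟨f (T k0 w), fun k => ?_⟩
  rcases ip_cases32 nm_v2 (nmS k) with e | e | e | e | e | e | e
  · rw [s32 k e, e, ip_self, nm_v2]; push_cast; ring
  · have := ipS k
    rw [e, ip_neg_left, ip_comm, ip_v1_v2] at this
    omega
  · rw [ip_comm] at e
    rw [s16 k e, e]; push_cast; ring
  · rw [ip_comm] at e
    obtain ⟨h, hh, q⟩ := SphA.swap8 (nmS k) (ipS k) e
    have := p3 k (k * g0) h hh (q.trans (p2 k).1.symm)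
    rw [(p2 k).2] at this
    rw [eq_zero_of_neg h2 this, e]; push_cast; ring
  · rw [ip_comm] at e
    rw [s0 k e, e]; push_cast; ring
  · have := ip_cases32 nm_v2 (nmS (k * g0))
    have q := ipS (k * g0)
    rw [ip_comm, (p2 k).1, sub, ip_comm, e] at this
    rcases this with r | r | r
    · have := sub k
      rw [r, ip_comm (k.1 • v2), e, ip_self, nm_v2] at this
      omega
    · rw [(p2 k).1, r, ip_neg_left, ip_comm, ip_v1_v2] at q
      omega
    · omega
  · have := s32 (k * g0) (eq_of_ip (by rw [nmS, nm_v2]) (by rw [(p2 k).1, sub, ip_comm, e, nm_v2]; rfl))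
    rw [(p2 k).2] at this
    rw [ip_comm, e, neg_eq_iff_eq_neg.1 this]; push_cast; ring

/-- A permutation fixing `v1`. -/
noncomputable def pS (σ : M24) (h : perm σ • v1 = v1) : S1 := ⟨perm σ, h⟩

theorem perm_e {σ : M24} (hσ : perm σ • v1 = v1) (h0 : σ.1 none = none) (h1 : σ.1 (some 0) = some 0) {i : Pt} {u : Y}
    (hu : u ∈ Yw T fun d => wd d i) : T (pS σ hσ) u ∈ Yw T fun d => wd d (σ.1 i) := mem_Y.2 fun d hd => by
  have e : En (pc σ⁻¹ d) := hd.pc (.inl ⟨Equiv.Perm.inv_eq_iff_eq.2 h0.symm, Equiv.Perm.inv_eq_iff_eq.2 h1.symm⟩)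
  have q := mon_conj 0 (pc σ⁻¹ d) σ
  have q' : pc σ (pc σ⁻¹ d) = d := by rw [← pc_mul, mul_inv_cancel, pc_one]
  rw [sgC_zero, one_mul, q'] at q
  have r : pS σ hσ * sS _ e * (pS σ hσ)⁻¹ = sS d hd := Subtype.ext q
  rw [ap_conj T r, mem_Y.1 hu, map_smul, ← pm_apply σ (wd (pc σ⁻¹ d)), ← wd_pc, q']

theorem co0 {k : Pt} (h : k ≠ none) : cF F (2 • pm (some 1) 1 - v1) k + cF F (2 • pm (some 1) (-1) - v1) k =
    -8 * if k = some 0 then 1 else 0 := by
  simp only [cF_apply, pm, v1, AddSubgroupClass.coe_sub, AddSubmonoidClass.coe_nsmul, Pi.sub_apply, Pi.smul_apply,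
    v44_apply, if_neg h]
  split_ifs <;> push_cast <;> simp <;> norm_num

theorem co1 (i k : Pt) : cF F (2 • pm i 1 - v1) k - cF F (2 • pm i (-1) - v1) k = 2 * 8 * if k = i then 1 else 0 := by
  simp only [cF_apply, pm, AddSubgroupClass.coe_sub, AddSubmonoidClass.coe_nsmul, Pi.sub_apply, Pi.smul_apply,
    v44_apply]
  split_ifs <;> push_cast <;> simp <;> ring

variable [FiniteDimensional F Y]

theorem emb (h2 : (2 : F) ≠ 0) (h : Yw T (fun d => wd d (some 1)) ≠ ⊥) (hd : finrank F Y ≤ 23) :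
    ∃ j : Y →ₗ[F] (Pt → F), Function.Injective j ∧ (∀ g u, j (T g u) = mF F g *ᵥ j u) ∧
      ∀ u, j u none = j u (some 0) := by
  obtain ⟨h1, hsp, e, he, y, hy, y0, wU, ⟨g0, g1, g2⟩, hp⟩ := Y_main h2 h hd
  obtain ⟨-, -, e', he', y', hy', y0', fU, -, -⟩ := Y_main h2 (dual_ne h2 h) (by rwa [Subspace.dual_finrank_eq])
  have o1 : (1 : ZMod 2) ≠ 0 := one_ne_zero
  have dbl : ∀ {i : Pt} {d : Cd} (hd : En d), wd d i = 1 → ∀ {u : Y}, (u ∈ Yw T fun d => wd d i) →
      u + y + T (sS d hd) (u + y) = (2 : F) • y := fun hd k u hu => by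
    rw [map_add, mem_Y.1 hu, mem_Y.1 hy, k, Pi.zero_apply, sg_one, sg_zero, one_smul, neg_one_smul, two_smul]; abel
  have spm : ∀ {i : Pt} {d : Cd}, En d → wd d i = 1 → sgC d • pm i 1 = pm i (-1) := fun hd k => by
    rw [pm, sgC_v44, k, hd.2, if_pos rfl, if_neg o1.symm, pm]
  obtain ⟨d1, a1, b1, -⟩ := ex_sep (k := some 1) (l := none) (by decide) (by decide) (by decide)
  obtain ⟨d2, a2, b2, -⟩ := ex_sep (k := some 2) (l := none) (by decide) (by decide) (by decide)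
  obtain ⟨σ, hσ, e1⟩ := Golay.exists_Fix_map_list {none, some 0} [some 1] [some 2] (by simp) (by simp) (by decide)
    (by decide) rfl (by decide)
  have s0 : σ none = none := (Golay.mem_Fix.1 hσ).2 _ (by simp)
  have s1 : σ (some 0) = some 0 := (Golay.mem_Fix.1 hσ).2 _ (by simp)
  have s2 : σ (some 1) = some 2 := by simpa using e1
  have hs : perm ⟨σ, hσ.1⟩ • v1 = v1 := by rw [v1, perm_v44, s0, s1]
  have v2' : perm ⟨σ, hσ.1⟩ • v2 = pm (some 2) 1 := by rw [v2, perm_v44, s1, s2, pm]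
  have fU' : ∀ g : S1, g.1 • v2 = v2 → ∀ u, (e' + y') (T g u) = (e' + y') u := fun g k u => by
    have := LinearMap.congr_fun (fU g⁻¹ (by rw [coe_inv, inv_smul_eq_iff, k])) u
    rwa [dual_ap, inv_inv] at this
  obtain ⟨β, hβ⟩ := sph h2 wU fU' g1 g2 (a := sS d1 a1) (b := pS _ hs) (c := sS d2 a2 * pS _ hs) (spm a1 b1) v2'
    ((mul_smul _ _ _).trans ((congrArg _ v2').trans (spm a2 b2)))
    (by rw [dbl a1 b1 he, ap_mul, map_add (T (pS _ hs)), show T (pS _ hs) y = y from hp _ hs, dbl a2 b2 (s2 ▸ perm_e hs s0 s1 he)])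
  have β0 : β ≠ 0 := by
    rintro rfl
    have z : ∀ k, (e' + y') (T k (e + y)) = 0 := fun k =>
      (mul_eq_zero.1 ((hβ k).trans (zero_mul _))).resolve_left (eight_ne h2)
    have q := congrArg (e' + y') (dbl a1 b1 he)
    have z1 := z 1
    rw [map_one, End.one_apply] at z1
    rw [map_add, z, z1, map_smul, LinearMap.add_apply, pair_zero h2 he' hy a1 (b1 ▸ o1), zero_add, zero_add, eq_comm,
      smul_eq_zero, or_iff_right h2] at q
    refine y0' (LinearMap.ker_eq_top.1 (hsp _ (fun u hu => ?_) fun k n0 n1 u hu => ?_))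
    · obtain ⟨a, rfl⟩ := ex_smul h1 hy y0 hu
      rw [LinearMap.mem_ker, map_smul, q, smul_zero]
    · obtain ⟨d, a, b, -⟩ := ex_sep n0 n1 n0
      exact pair_zero h2 hy' hu a (b ▸ o1.symm)
  choose kk hk using @exP
  let fx : S1 → Dual F Y := fun k => (e' + y') ∘ₗ T k⁻¹
  have hfx : ∀ k l : S1, 8 * fx k (T l (e + y)) = β * ((ip (l.1 • v2) (k.1 • v2) : ℤ) - 8) := fun k l => by
    rw [← ip_smul k.1⁻¹, inv_smul_smul, ← mul_smul]
    exact (congrArg (8 * (e' + y') ·) (ap_mul T k⁻¹ l _).symm).trans (hβ (k⁻¹ * l))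
  let f0 : Dual F Y := -(fx (kk (i := some 1) (by decide) (by decide) 1) + fx (kk (i := some 1) (by decide) (by decide) (-1)))
  let j : Y →ₗ[F] (Pt → F) := (2 : F) • LinearMap.pi fun i =>
    if n : i ≠ none ∧ i ≠ some 0 then fx (kk n.1 n.2 1) - fx (kk n.1 n.2 (-1)) else f0
  have hj : ∀ l : S1, j (T l (e + y)) = β • cF F (2 • l.1 • v2 - v1) := fun l => funext fun i => by
    have t := ipS l
    rw [ip_v1] at t
    refine mul_left_cancel₀ (eight_ne h2) ?_
    simp only [j, LinearMap.smul_apply, Pi.smul_apply, LinearMap.pi_apply, smul_eq_mul, cF_apply]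
    split_ifs with n
    · have a := hfx (kk n.1 n.2 1) l
      have b := hfx (kk n.1 n.2 (-1)) l
      rw [hk, pm, ipP] at a b
      generalize T l (e + y) = z at a b ⊢
      simp [v1, v44_apply, n.1, n.2, -mul_eq_mul_left_iff] at a b ⊢
      linear_combination 2 * a - 2 * b
    · have a := hfx (kk (i := some 1) (by decide) (by decide) 1) l
      have b := hfx (kk (i := some 1) (by decide) (by decide) (-1)) l
      rw [hk, pm, ipP] at a b
      have t' : (((l.1 • v2 : Λ) : Vec) none : F) = ((l.1 • v2 : Λ) : Vec) (some 0) + 4 := by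
        exact_mod_cast congrArg (Int.cast : ℤ → F) (show _ = _ + (4 : ℤ) by omega)
      generalize T l (e + y) = z at a b ⊢
      rcases not_and_or.1 n with n | n <;> obtain rfl := not_not.1 n <;>
        simp [f0, v1, v44_apply, t', -mul_eq_mul_left_iff] at a b ⊢ <;> linear_combination -2 * a - 2 * b
  let Y0 : Submodule F Y := Submodule.span F (Set.range fun k => T k (e + y))
  let p : (Pt → F) →ₗ[F] ({i : Pt // i ≠ none} → F) := LinearMap.funLeft F F Subtype.val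
  have top : Y0.map (p ∘ₗ j) = ⊤ := by
    have m : ∀ k : S1, p (β • cF F (2 • k.1 • v2 - v1)) ∈ Y0.map (p ∘ₗ j) := fun k =>
      ⟨_, Submodule.subset_span ⟨k, rfl⟩, by rw [LinearMap.comp_apply, hj]⟩
    rw [eq_top_iff, ← (Pi.basisFun F _).span_eq, Submodule.span_le]
    rintro _ ⟨⟨i, n0⟩, rfl⟩
    by_cases n1 : i = some 0
    · subst n1
      have := Submodule.add_mem _ (m (kk (i := some 1) (by decide) (by decide) 1)) 
        (m (kk (i := some 1) (by decide) (by decide) (-1)))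
      refine (Submodule.smul_mem_iff _ (neg_ne_zero.2 (mul_ne_zero β0 (eight_ne h2)))).1 ?_
      convert this using 1
      funext ⟨k, hk'⟩
      simp only [hk, p, LinearMap.funLeft_apply, Pi.add_apply, Pi.smul_apply, Pi.basisFun_apply,
        Pi.single_apply, Subtype.mk.injEq, smul_eq_mul]
      rw [← mul_add, co0 hk']; ring
    · have := Submodule.sub_mem _ (m (kk n0 n1 1)) (m (kk n0 n1 (-1)))
      refine (Submodule.smul_mem_iff _ (mul_ne_zero β0 (mul_ne_zero h2 (eight_ne h2)))).1 ?_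
      convert this using 1
      funext ⟨k, hk'⟩
      simp only [hk, p, LinearMap.funLeft_apply, Pi.sub_apply, Pi.smul_apply, Pi.basisFun_apply,
        Pi.single_apply, Subtype.mk.injEq, smul_eq_mul]
      rw [← mul_sub, co1]; ring
  have c23 : finrank F ({i : Pt // i ≠ none} → F) = 23 := by
    rw [finrank_fintype_fun_eq_card, Fintype.card_subtype_compl, Fintype.card_subtype_eq]; rfl
  have le := Submodule.finrank_map_le (p ∘ₗ j) Y0
  rw [top, finrank_top, c23] at le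
  have y0t : Y0 = ⊤ := Submodule.eq_top_of_finrank_eq (le_antisymm Y0.finrank_le (hd.trans le))
  have inj : Function.Injective (p ∘ₗ j) :=
    (LinearMap.injective_iff_surjective_of_finrank_eq_finrank
      (by rw [c23]; exact le_antisymm hd (le.trans Y0.finrank_le))).2
      (LinearMap.range_eq_top.1 (by rw [← Submodule.map_top, ← y0t, top]))
  refine ⟨j, Function.Injective.of_comp (f := p) inj, fun g u => ?_, fun u => by simp [j]⟩
  refine LinearMap.eqOn_span (f := j ∘ₗ T g) (g := (mF F g).mulVecLin ∘ₗ j) ?_ (y0t.ge Submodule.mem_top)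
  rintro _ ⟨k, rfl⟩
  simp only [LinearMap.comp_apply, mulVecLin_apply]
  rw [← ap_mul, hj, hj, mulVec_smul, mF_cF h2, smul_sub, show g.1 • v1 = v1 from g.2, coe_mul, mul_smul g.1,
    smul_comm g.1 2]

end Cfsg.Agent.B43.F1Aux
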