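import Mathlib
import Cfsg.Agent.B43.Defs
import Cfsg.Agent.Gr.R4.Bas

/-! The module of `BM` as a representation in the sense of `R4`. -/

set_option autoImplicit false

namespace Cfsg.Agent.B43

open Subgroup Module Cfsg.Agent.Spor Cfsg.Agent.Spor.Leech Cfsg.Agent.Gr Cfsg.Agent.Gr6B Cfsg.Agent.Gr.R4

theorem mem_QH_zz {x : HH} : x ∈ QH zz ↔ (x : K) ∈ QK := (mem_QH zz_mem_ZC).trans inQ_zz

theorem ov_CC (g : CC) : Ov g (PP.sg g) := ⟨(incl g).2, (mem_CC.1 g.2).2, PP.sg_v1 g, PP.sg_spec g⟩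

namespace BM

variable {F V : Type*} [Field F] [AddCommGroup V] [Module F V] [DistribMulAction HH V] (hb : BM F V)

open Classical in
/-- The action as a family of linear maps. -/
noncomputable def r (g : K) : End F V :=
  if h : g ∈ HH then ⟨⟨fun v => (⟨g, h⟩ : HH) • v, smul_add _⟩, hb.comm _⟩ else 1

theorem r_ap {g : K} (h : g ∈ HH) (v : V) : hb.r g v = (⟨g, h⟩ : HH) • v := by rw [r, dif_pos h]; rfl

theorem rp : Rp hb.r where
  two := hb.two
  mul g hg h hh := LinearMap.ext fun v => by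
    rw [End.mul_apply, hb.r_ap hg, hb.r_ap hh, hb.r_ap (HH.mul_mem hg hh), ← mul_smul]; rfl
  one := LinearMap.ext fun v => (hb.r_ap HH.one_mem v).trans (one_smul HH v)
  t := LinearMap.ext fun v => (hb.r_ap (mem_centralizer_singleton.2 rfl) v).trans ((hb.ker _).2 (.inr rfl) v)
  ne e := ((hb.ker ⟨zz, z_HH⟩).1 fun v => (hb.r_ap z_HH v).symm.trans (LinearMap.congr_fun e v)).elim zz_ne_one
    fun q => zz_not_mem_DD ((show zz = t0 from q) ▸ t0_mem)

include hb in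
theorem fd : FiniteDimensional F V := finite_of_finrank_pos (by rw [hb.dim]; norm_num)

theorem wt_iff {μ : LL} {ξ : V} : ξ ∈ Wt hb.r μ ↔
    ∀ (x : HH) e c, (x : K) = tq e c → x • ξ = sg F (pol μ c) • ξ := by
  refine mem_Wt.trans ⟨fun h x e c q => ?_, fun h e c k => ?_⟩
  · rw [← h e c (tq_HH.1 (q ▸ x.2)), ← q, hb.r_ap x.2]
  · rw [hb.r_ap (tq_HH.2 k), h _ e c rfl]

theorem wt0 {ξ : V} : ξ ∈ Wt hb.r 0 ↔ Fx (QH zz) ξ := by
  simp only [hb.wt_iff, pol_zero_left, sg_zero, one_smul]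
  exact ⟨fun h x hx => let ⟨e, c, q⟩ := mem_QK.1 (mem_QH_zz.1 hx); h x e c q,
    fun h x e c q => h x (mem_QH_zz.2 (mem_QK.2 ⟨e, c, q⟩))⟩

end BM

end Cfsg.Agent.B43
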