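import Mathlib
import Cfsg.Agent.B43.F1A
import Cfsg.Agent.B43.Rep
import Cfsg.Agent.Gr.R4.Ye

/-! The fixed points of the extraspecial group form the 23-dimensional module. -/

set_option autoImplicit false

namespace Cfsg.Agent.B43

open Subgroup Matrix Cfsg.Agent.Spor Cfsg.Agent.Spor.Leech Cfsg.Agent.Gr Cfsg.Agent.Gr6B Cfsg.Agent.Gr.R4

theorem BM.exists_j {F V : Type*} [Field F] [AddCommGroup V] [Module F V] [DistribMulAction HH V] (hb : BM F V) :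
    ∃ j : V →+ (Pt → F), (∀ ξ : V, Fx (QH zz) ξ → j ξ = 0 → ξ = 0) ∧
      (∀ (g : CC) (ξ : V), Fx (QH zz) ξ → j (incl g • ξ) = mF F (PP.sg g) *ᵥ j ξ) ∧
      ∀ ξ : V, Fx (QH zz) ξ → j ξ none = j ξ (some 0) := by
  have := hb.fd
  have c := hb.rp.count hb.dim.le
  obtain ⟨j, h1, h2, h3⟩ := F1Aux.emb hb.two (hb.rp.ye_ne hb.dim.le) (by rw [hb.dim] at c; omega)
  obtain ⟨p, hp⟩ := (Wt hb.r 0).subtype.exists_leftInverse_of_injective (Submodule.ker_subtype _)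
  have k : ∀ ξ h, p ξ = ⟨ξ, hb.wt0.2 h⟩ := fun ξ h => LinearMap.congr_fun hp ⟨ξ, hb.wt0.2 h⟩
  refine ⟨(j ∘ₗ p).toAddMonoidHom, fun ξ h e => ?_, fun g ξ h => ?_, fun ξ _ => h3 _⟩
  · have : j (p ξ) = j 0 := e.trans (map_zero j).symm
    exact congrArg Subtype.val ((k ξ h).symm.trans (h1 this))
  · have q := (hb.rp.Ty_eq (ov_CC g) (PP.sg_v1 g) ⟨ξ, hb.wt0.2 h⟩).trans (hb.r_ap (incl g).2 ξ)
    refine Eq.trans (congrArg j ?_) ((h2 ⟨PP.sg g, PP.sg_v1 g⟩ _).trans (congrArg (_ *ᵥ j ·) (k ξ h).symm))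
    exact (congrArg p q.symm).trans (LinearMap.congr_fun hp (hb.rp.Ty _ _))

end Cfsg.Agent.B43
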