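import Mathlib
import Cfsg.Agent.B43.Defs
import Cfsg.Agent.Gr6B.I

/-! Geometry of the collinearity graph on the points whose extraspecial group contains `t0`. -/

set_option autoImplicit false

namespace Cfsg.Agent.B43

open Subgroup Matrix Cfsg.Agent.Spor Cfsg.Agent.Spor.Leech Cfsg.Agent.Gr Cfsg.Agent.Gr6B

variable {a b c z : K}

namespace GeoAux

theorem cj_t0 (g : HH) : (g : K) * t0 * (g : K)⁻¹ = t0 :=
  conj_eq_of_comm (mem_centralizer_singleton.1 g.2).symm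

theorem inQ_cj (h : InQ z t0) (g : HH) : InQ (cH g z) t0 := by
  have := h.conj g
  rwa [cj_t0] at this

theorem cH_mul (g : HH) (x y : K) : cH g (x * y) = cH g x * cH g y := conj_mul' _ _ _

theorem cH_inv (g : HH) (x : K) : cH g⁻¹ (cH g x) = x := by
  rw [← Equiv.Perm.mul_apply, ← map_mul, inv_mul_cancel, map_one, Equiv.Perm.one_apply]

theorem cH_cj (g x : HH) (y : K) : cH (g⁻¹ * x * g⁻¹⁻¹) y = cH g⁻¹ (cH x (cH g y)) := by
  rw [map_mul, map_mul, inv_inv]; rfl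

theorem nm0 : nm u0 = 32 := nm_v44 p01 1 1

theorem ip0 : ip v1 u0 = 0 := by
  rw [ip_comm, TriV.ip_v1]; simp [u0, v44_apply]

theorem om_eq : ((om, 0) : LL) = cls v1 + cls u0 := by
  rw [← cls_add, ← cls_e8 none]
  congr 1
  refine Subtype.ext (funext fun i => ?_)
  change _ = (v1 : Vec) i + (u0 : Vec) i
  rw [e8_apply, v1, u0, v44_apply, v44_apply]
  split_ifs with h1 h2 <;> simp

theorem v1_ne : cls v1 ≠ (om, 0) := fun e => ZH.om_ne.2.2 (e ▸ mem_ShS.2 ⟨v1, nm_v1, rfl⟩)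

theorem csm_om {k : Co0} (h : k • v1 = v1) : csm k (om, 0) = cls v1 + cls (k • u0) := by
  rw [om_eq, csm_add, csm_cls, csm_cls, h]

/-- The neighbours of `zz`. -/
theorem nbr (h : adjZB zz b) : ∃ e u, nm u = 32 ∧ ip v1 u = 0 ∧ b = tq e (cls v1 + cls u) := by
  have h1 := (ZH.inQ_iff t0_mem).1 h.2.2
  obtain ⟨f, u, hu, e⟩ := exists_tq h1.1 (QK.mul_mem t0_mem_QK (inQ_zz.1 h.1.2.2))
  have h2 := h1.2
  rw [e] at h2
  nth_rw 1 [t0_v1] at h2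
  have h3 : b = t0 * tq f (cls u) := by rw [← e, DD_mul_cancel t0_mem]
  rcases (lm_tq_iff 0 f nm_v1 hu).2.2.1 h2 with k | ⟨k, k'⟩
  · exact ⟨_, u, hu, k, by rw [h3, t0_v1, tq_mul]⟩
  · refine (h.1.2.1 (mul_left_cancel (a := t0) ?_)).elim
    rw [e, t0_v1, tq_mul_zz, k, tq_inj]
    exact ⟨(by decide : ∀ e : ZMod 2, 0 ≠ e → e = 0 + 1) f k', rfl⟩

theorem mem_QH_zz {x : HH} : x ∈ QH zz ↔ (x : K) ∈ QK := (mem_QH zz_mem_ZC).trans inQ_zz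

theorem ex_q {γ : LL} (h : pol γ (cls v1) = 0) :
    ∃ x ∈ QH zz, ∀ e β, cH x (tq e β) = tq (e + pol γ β) β :=
  ⟨⟨tq 0 γ, mem_centralizer_singleton.2 (by rw [t0_v1, tq_comm_iff, pol_comm, h])⟩,
    mem_QH_zz.2 ⟨_, _, rfl⟩, fun e β => tq_conj _ _ _ _⟩

theorem z2_one {e : ZMod 2} (h : e ≠ 0) : e = 1 := by revert e; decide

theorem two_cases (e f : ZMod 2) (β : LL) : tq e β = tq f β ∨ tq e β = zz * tq f β := by
  rw [zz_mul_tq, tq_inj, tq_inj]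
  have : e = f ∨ e = f + 1 := by revert e f; decide
  exact this.imp (⟨·, rfl⟩) (⟨·, rfl⟩)

theorem move_zz (h1 : adjZB zz b) (hc : c = t0 ∨ adjZB zz c) (n1 : c ≠ b) (n2 : c ≠ zz * b) :
    ∃ x ∈ QH zz, cH x b = zz * b ∧ cH x c = c := by
  obtain ⟨e, u, hu, k, rfl⟩ := nbr h1
  obtain ⟨f, κ, rfl, hκ⟩ : ∃ f κ, c = tq f κ ∧ cls v1 + cls u ≠ cls v1 + κ := by
    rcases hc with rfl | hc
    · exact ⟨_, _, t0_v1, fun q => cls_ne_of_ip nm_v1 hu (by rw [k]; norm_num) (add_left_cancel q).symm⟩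
    · obtain ⟨f, w, hw, -, rfl⟩ := nbr hc
      refine ⟨_, _, rfl, fun q => ZH.not_DD h1.1.1 (tq_mem_DD_iff.2 ?_)⟩
      rw [q, ← add_assoc, ll_add_self, zero_add]
      exact mem_ShS.2 ⟨w, hw, rfl⟩
  obtain ⟨γ, g1, g2, g3⟩ : ∃ γ, pol γ (cls v1) = 0 ∧ pol γ κ = 0 ∧ pol γ (cls v1 + cls u) ≠ 0 := by
    by_contra hn
    push Not at hn
    rcases mem_span_of_pol hn with q | q | q | q
    · refine cls_ne_of_ip nm_v1 hu (by rw [k]; norm_num) ?_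
      rw [← add_zero (cls v1), ← q, ← add_assoc, ll_add_self, zero_add]
    · exact cls_ne_zero hu (add_eq_left.1 q)
    · rw [q] at n1 n2
      exact (two_cases f e κ).elim n1 n2
    · exact hκ q
  obtain ⟨x, hx, ex⟩ := ex_q g1
  exact ⟨x, hx, by rw [ex, z2_one g3, zz_mul_tq], by rw [ex, g2, add_zero]⟩

end GeoAux

open GeoAux

theorem adjZB.symm (h : adjZB a b) : adjZB b a := ⟨ZH.symm h.1, h.2.2, h.2.1⟩

theorem adjZB.cj (h : adjZB a b) (g : HH) : adjZB (cH g a) (cH g b) :=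
  ⟨(adjZ_conj g).2 h.1, inQ_cj h.2.1 g, inQ_cj h.2.2 g⟩

theorem adjZB.mul (h : adjZB a b) : adjZB a (a * b) ∧ adjZB b (a * b) :=
  have k := ZH.inQ_line h.1 t0_mem h.2.1 h.2.2
  ⟨⟨(ZH.adj_mul h.1).1, h.2.1, k⟩, (ZH.adj_mul h.1).2, h.2.2, k⟩

theorem adj_zz_zs : adjZB zz zs := ⟨ZH.adj_zs, inQ_zz.2 t0_mem_QK, ZH.inQ_zs_t0⟩

theorem cH_mem (g : HH) : cH g zz ∈ ZB := inQ_cj (inQ_zz.2 t0_mem_QK) g

theorem ex_zz (h : z ∈ ZB) : ∃ g : HH, cH g z = zz := by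
  obtain ⟨g, g1, g2⟩ := O2_conj_zz t0_mem ((ZH.inQ_iff t0_mem).1 h)
  rw [DD_mul_cancel t0_mem] at g2
  exact ⟨⟨g, mem_centralizer_singleton.2 (mul_inv_eq_iff_eq_mul.1 g1).symm⟩, g2⟩

theorem connZ (g : HH) : Relation.ReflTransGen adjZB zz (cH g zz) :=
  ZH.connB t0_mem (inQ_zz.2 t0_mem_QK) (cH_mem g)

theorem QH_cj (g x : HH) : g * x * g⁻¹ ∈ QH (cH g z) ↔ x ∈ QH z := by
  constructor
  · intro h k e
    have := h (k * (g : K)⁻¹) (by rw [cH_apply, ← e]; group)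
    rwa [coe_mul, coe_mul, coe_inv,
      show k * (g : K)⁻¹ * (g * x * (g : K)⁻¹) * (k * (g : K)⁻¹)⁻¹ = k * x * k⁻¹ by group] at this
  · intro h k e
    have := h (k * g) (by rw [← e, cH_apply]; group)
    rwa [← conj_conj] at this

theorem QH_le (h : z ∈ ZB) : QH z ≤ St cH z := fun _ hx =>
  conj_eq_of_comm (ZH.comm ((mem_QH (InQ.mem h)).1 hx)).symm

/-- An element of `QH a` fixes a neighbour `b` or moves it to the third point of the line. -/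
theorem QH_act (h : adjZB a b) {x : HH} (hx : x ∈ QH a) : cH x b = b ∨ cH x b = a * b := by
  obtain ⟨g, e, hb⟩ := h.1.2.2
  have := CL.es2.aes.conj_eq (hx g e) hb
  rw [← e, ← conj_mul' g a, show g * x * g⁻¹ * (g * b * g⁻¹) * (g * x * g⁻¹)⁻¹ =
    g * (x * b * (x : K)⁻¹) * g⁻¹ by group] at this
  exact this.imp (fun k => by simpa [cH_apply] using k) fun k => by simpa [cH_apply] using k

theorem trZ (h : adjZB zz z) : ∃ g : CC, cH (incl g) zs = z := by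
  obtain ⟨e, u, hu, k, rfl⟩ := nbr h
  obtain ⟨g, g1, g2⟩ := trans_orth nm_v1 nm0 ip0 nm_v1 hu k
  obtain ⟨x, -, hx⟩ := PP.exists_sg_eq g1 ZH.om_ne.1 v1_ne 1 e
  rw [csm_om g1, g2] at hx
  exact ⟨x, hx⟩

theorem sg_u0 {g : CC} (h : cH (incl g) zs = zs ∨ cH (incl g) zs = zz * zs) :
    PP.sg g • u0 = u0 ∨ PP.sg g • u0 = -u0 := by
  obtain ⟨f, e⟩ := PP.sg_spec g 1 (om, 0)
  have e' : cH (incl g) zs = tq f (csm (PP.sg g) (om, 0)) := e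
  rw [e', zz_mul_tq, tq_inj, tq_inj, csm_om (PP.sg_v1 g), om_eq] at h
  exact (cls_eq_iff_short (by rw [nm_smul, nm0]) nm0).1 (add_left_cancel (h.elim (·.2) (·.2)))

theorem of_sg_u0 {g : CC} (h : PP.sg g • u0 = u0 ∨ PP.sg g • u0 = -u0) :
    cH (incl g) zs = zs ∨ cH (incl g) zs = zz * zs := by
  obtain ⟨f, e⟩ := PP.sg_spec g 1 (om, 0)
  have e' : cH (incl g) zs = tq f (csm (PP.sg g) (om, 0)) := e
  rw [e', csm_om (PP.sg_v1 g), (cls_eq_iff_short (by rw [nm_smul, nm0]) nm0).2 h, ← om_eq]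
  exact two_cases _ _ _

theorem ex_sg_u0 {k : Co0} (h1 : k • v1 = v1) (h : k • u0 = u0 ∨ k • u0 = -u0) :
    ∃ g : CC, cH (incl g) zs = zs ∧ PP.sg g = k := by
  obtain ⟨x, e, hx⟩ := PP.exists_sg_eq h1 ZH.om_ne.1 v1_ne 1 1
  rw [csm_om h1, (cls_eq_iff_short (by rw [nm_smul, nm0]) nm0).2 h, ← om_eq] at hx
  exact ⟨x, hx, e⟩

theorem ex_sign {r : Co0} (h : r ∈ RT T2) : ∃ g : CC, incl g ∈ QH zs ∧ PP.sg g = r := by
  obtain ⟨c, hc, hd, rfl⟩ := h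
  have h1 : sign c hc • v1 = v1 := Subtype.ext (funext fun i => by
    rw [sign_apply]
    split_ifs with k
    · have := Finset.disjoint_left.1 hd k
      simp only [Finset.mem_insert, Finset.mem_singleton, not_or] at this
      simp [v1, v44_apply, this.1, this.2]
    · rfl)
  obtain ⟨d, -, ed⟩ := Rk.exists_sgC hc
  rw [ed] at h1 ⊢
  obtain ⟨ρ, r1, r2, r3⟩ := IB.exists_r d
  have h2 : ρ * t0 * ρ⁻¹ = t0 := by
    obtain ⟨f, e⟩ := r3 0 (cls v1)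
    rw [csm_cls, h1, ← t0_v1] at e
    rcases two_cases f 0 (cls v1) with k | k <;> rw [k, ← t0_v1] at e
    · exact e
    · refine (IB.esRR.aes.conj_eq r1 (inQ_zs.1 ZH.inQ_zs_t0)).resolve_right fun q => ZH.adj_zs.2.1 ?_
      exact mul_right_cancel (q.symm.trans e)
  exact ⟨⟨ρ, mem_CC.2 ⟨(mul_inv_eq_iff_eq_mul.1 h2).symm, r2⟩⟩, (mem_QH ZH.zs_mem).2 (inQ_zs.2 r1),
    PP.sg_eq h1 r3⟩

theorem GeoAux.move (h1 : adjZB a b) (hc : c = t0 ∨ adjZB a c) (n1 : c ≠ b) (n2 : c ≠ a * b) :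
    ∃ x ∈ QH a, cH x b = a * b ∧ cH x c = c := by
  obtain ⟨g, e⟩ := ex_zz h1.2.1
  obtain ⟨x, hx, e1, e2⟩ := move_zz (b := cH g b) (c := cH g c) (e ▸ h1.cj g)
    (hc.imp (fun k => by rw [k]; exact cj_t0 g) fun k => e ▸ k.cj g) (fun k => n1 ((cH g).injective k))
    fun k => n2 ((cH g).injective (by rw [k, cH_mul, e]))
  refine ⟨g⁻¹ * x * g⁻¹⁻¹, ?_, ?_, ?_⟩
  · rw [← cH_inv g a, e]; exact (QH_cj _ _).2 hx
  · rw [cH_cj, e1, ← e, ← cH_mul, cH_inv]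
  · rw [cH_cj, e2, cH_inv]

theorem ex_move (h : adjZB a b) : ∃ x ∈ QH a, cH x b = a * b := by
  obtain ⟨x, hx, e, -⟩ := GeoAux.move h (.inl rfl) (fun k => ZH.not_DD h.1.1 (k ▸ t0_mem))
    fun k => ZH.not_DD h.mul.1.1.1 (k ▸ t0_mem)
  exact ⟨x, hx, e⟩

theorem ex_move2 (h1 : adjZB a b) (h2 : adjZB a c) (n1 : c ≠ b) (n2 : c ≠ a * b) :
    ∃ x ∈ QH a, cH x b = a * b ∧ cH x c = c := GeoAux.move h1 (.inr h2) n1 n2

theorem adj_plane (h1 : adjZB a b) (h2 : adjZB a c) (h3 : adjZB b c) (n : c ≠ a * b) : adjZB a (b * c) :=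
  ⟨⟨h3.mul.1.1.1, fun e => n (by
    rw [ZH.comm h1.1.2.2, ← e, ← mul_assoc, ZH.sq h1.1.1, one_mul]), h1.1.2.2.mul h2.1.2.2⟩, h1.2.1,
    h3.mul.1.2.2⟩

theorem triZ (h1 : adjZB a b) (h2 : adjZB a c) (h3 : adjZB b c) :
    ∃ s : HH, cH s a = b ∧ cH s b = a ∧ cH s c = c := by
  have hu := h1.mul.1.symm
  have e1 : a * b * a = b := by rw [← ZH.comm hu.symm.1.2.2, ← mul_assoc, ZH.sq hu.1.1, one_mul]
  have e2 : a * b * b = a := by rw [mul_assoc, ZH.sq h1.1.1, mul_one]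
  obtain ⟨x, hx, e3, e4⟩ : ∃ x ∈ QH (a * b), cH x a = a * b * a ∧ cH x c = c := by
    by_cases e : c = a * b
    · obtain ⟨x, hx, e3⟩ := ex_move hu
      exact ⟨x, hx, e3, e ▸ QH_le hu.2.1 hx⟩
    · refine ex_move2 hu (adj_plane h2.symm h3.symm h1 fun k => e ?_).symm h2.1.2.1 (by rw [e1]; exact h3.1.2.1)
      rw [k, ← ZH.comm h2.1.2.2, ← mul_assoc, ZH.sq hu.1.1, one_mul]
  rw [e1] at e3
  refine ⟨x, e3, ?_, e4⟩
  have e5 : cH x (a * b) = a * b := QH_le hu.2.1 hx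
  rw [← e2]
  conv_lhs => rw [← e1, cH_mul, e5, e3]

end Cfsg.Agent.B43
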