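import Mathlib
import Cfsg.Agent.B43.Geo
import Cfsg.Agent.B43.Rep
import Cfsg.Agent.Gr.R4.Wt

/-! Fixed points of subgroups of the extraspecial group. -/

set_option autoImplicit false

namespace Cfsg.Agent.B43

open Subgroup Matrix Cfsg.Agent.Spor Cfsg.Agent.Spor.Leech Cfsg.Agent.Gr Cfsg.Agent.Gr6B

variable {F V : Type*} [Field F] [AddCommGroup V] [Module F V] [DistribMulAction HH V] {a b c : K} {ξ : V}

namespace FixAux

open GeoAux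

theorem two_cos {G W : Type*} [Group G] [AddCommGroup W] [DistribMulAction G W] {S T : Subgroup G} {v : W}
    (h : ∀ x ∈ T, ∀ y ∈ T, x ∉ S → y ∉ S → x * y ∈ S) (hv : Fx S v) {q x : G} (hq : q ∈ T) (hq' : q ∉ S)
    (hx : x ∈ T) : (x ∈ S → x • v = v ∧ x • q • v = q • v) ∧ (x ∉ S → x • v = q • v ∧ x • q • v = v) := by
  have h1 : q⁻¹ ∉ S := fun k => hq' (inv_mem_iff.1 k)
  refine ⟨fun k => ⟨hv x k, ?_⟩, fun k => ⟨?_, ?_⟩⟩
  · rw [← mul_smul, ← mul_inv_cancel_left q (x * q), mul_smul,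
      hv _ (h _ (inv_mem hq) _ (mul_mem hx hq) h1 fun m => hq' ((mul_mem_cancel_left k).1 m))]
  · rw [← mul_inv_cancel_left q x, mul_smul, hv _ (h _ (inv_mem hq) _ hx h1 k)]
  · rw [← mul_smul, hv _ (h _ hx _ hq k hq')]

theorem fx_up {G W : Type*} [Group G] [AddCommGroup W] [DistribMulAction G W] {S T : Subgroup G} {v : W}
    (h : ∀ x ∈ T, ∀ y ∈ T, x ∉ S → y ∉ S → x * y ∈ S) (hv : Fx S v) {q : G} (hq : q ∈ T) (hq' : q ∉ S) :
    Fx T (v + q • v) := fun x hx => by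
  obtain ⟨h1, h2⟩ := two_cos h hv hq hq' hx
  by_cases k : x ∈ S
  · rw [smul_add, (h1 k).1, (h1 k).2]
  · rw [smul_add, (h2 k).1, (h2 k).2, add_comm]

theorem idx (h : adjZB a b) {x y : HH} (hx : x ∈ QH a) (hy : y ∈ QH a) (h1 : cH x b ≠ b) (h2 : cH y b ≠ b) :
    cH (x * y) b = b := by
  have e : cH x a = a := QH_le h.2.1 hx
  rw [map_mul, Equiv.Perm.mul_apply, (QH_act h hy).resolve_left h2, cH_mul, e, (QH_act h hx).resolve_left h1,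
    ← mul_assoc, ZH.sq h.symm.1.1, one_mul]

theorem eig_zz (hb : BM F V) (h : adjZB zz b) (h1 : ∀ x ∈ QH zz, cH x b = b → x • ξ = ξ)
    (h2 : ∀ x ∈ QH zz, cH x b ≠ b → x • ξ = -ξ) : ξ = 0 := by
  obtain ⟨e, u, hu, k, rfl⟩ := nbr h
  have h3 : ξ ∈ R4.Wt hb.r (cls v1 + cls u) := hb.wt_iff.2 fun x f c q => by
    have hx : x ∈ QH zz := GeoAux.mem_QH_zz.2 ⟨_, _, q⟩
    have e1 : cH x (tq e (cls v1 + cls u)) = tq (e + pol c (cls v1 + cls u)) (cls v1 + cls u) := by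
      rw [cH_apply, q, tq_conj]
    rw [pol_comm]
    by_cases m : pol c (cls v1 + cls u) = 0
    · rw [m, R4.sg_zero, one_smul]
      exact h1 x hx (by rw [e1, m, add_zero])
    · rw [z2_one m, R4.sg_one, neg_one_smul]
      exact h2 x hx fun n => m (add_eq_left.1 (tq_inj.1 (e1.symm.trans n)).1)
  by_contra h0
  have := hb.fd
  rcases hb.rp.wt_cls hb.dim.le (μ := cls v1 + cls u) (fun m => h0 (m.le h3)) with m | m | ⟨x, hx, -, m⟩
  · refine cls_ne_of_ip nm_v1 hu (by rw [k]; norm_num) ?_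
    rw [← add_zero (cls v1), ← m, ← add_assoc, ll_add_self, zero_add]
  · exact cls_ne_zero hu (add_eq_left.1 (m.trans (tq_inj.1 t0_v1).2))
  · exact ZH.not_DD h.1.1 (tq_mem_DD_iff.2 (mem_ShS.2 ⟨x, hx, m.symm⟩))

theorem eig (hb : BM F V) (h : adjZB a b) (h1 : ∀ x ∈ QH a, cH x b = b → x • ξ = ξ)
    (h2 : ∀ x ∈ QH a, cH x b ≠ b → x • ξ = -ξ) : ξ = 0 := by
  obtain ⟨g, e⟩ := ex_zz h.2.1
  have k1 : ∀ x ∈ QH zz, g⁻¹ * x * g⁻¹⁻¹ ∈ QH a := fun x hx => by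
    rw [← cH_inv g a, e]; exact (QH_cj _ _).2 hx
  have k2 : ∀ x : HH, x • g • ξ = g • (g⁻¹ * x * g⁻¹⁻¹) • ξ := fun x => by
    rw [← mul_smul, ← mul_smul]; congr 1; group
  have := eig_zz hb (ξ := g • ξ) (e ▸ h.cj g)
    (fun x hx m => by rw [k2, h1 _ (k1 x hx) (by rw [cH_cj, m, cH_inv])])
    fun x hx m => by
      rw [k2, h2 _ (k1 x hx) fun n => m ((cH g⁻¹).injective (by rw [← cH_cj, n, cH_inv])), smul_neg]
  rw [← inv_smul_smul g ξ, this, smul_zero]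

end FixAux

open FixAux

theorem BM.fx_one (hb : BM F V) (h : adjZB a b) (hξ : Fx (QH a ⊓ St cH b) ξ) : Fx (QH a) ξ := fun q hq => by
  by_cases hq' : q ∈ QH a ⊓ St cH b
  · exact hξ q hq'
  have k := fun {x : HH} (hx : x ∈ QH a) => two_cos (S := QH a ⊓ St cH b) (T := QH a)
    (fun x hx y hy h1 h2 => ⟨mul_mem hx hy, idx h hx hy (fun m => h1 ⟨hx, m⟩) fun m => h2 ⟨hy, m⟩⟩) hξ hq hq' hx
  refine (sub_eq_zero.1 (eig hb h (fun x hx m => ?_) fun x hx m => ?_)).symm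
  · rw [smul_sub, ((k hx).1 ⟨hx, m⟩).1, ((k hx).1 ⟨hx, m⟩).2]
  · rw [smul_sub, ((k hx).2 fun n => m n.2).1, ((k hx).2 fun n => m n.2).2, neg_sub]

theorem BM.fx_two (hb : BM F V) (h1 : adjZB a b) (h2 : adjZB a c) (h3 : adjZB b c)
    (hξ : Fx (QH a ⊓ St cH b ⊓ St cH c) ξ) : Fx (QH a) ξ := by
  have sa := ZH.sq h1.symm.1.1
  have na := ZH.ne_one h1.symm.1.1
  by_cases e : c = a * b
  · refine hb.fx_one h1 (hξ.mono fun x hx => ⟨hx, ?_⟩)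
    have e1 : cH x a = a := QH_le h1.2.1 hx.1
    have e2 : cH x b = b := hx.2
    change cH x c = c
    rw [e, GeoAux.cH_mul, e1, e2]
  obtain ⟨p, hp, p1, p2⟩ := ex_move2 h1 h2 h3.1.2.1 e
  obtain ⟨q, hq, q1, q2⟩ := ex_move2 h2 h1 h3.1.2.1.symm fun m => e (by rw [m, ← mul_assoc, sa, one_mul])
  have qa : cH q a = a := QH_le h1.2.1 hq
  have r1 : cH (q * p) b = a * b := by rw [map_mul, Equiv.Perm.mul_apply, p1, GeoAux.cH_mul, qa, q2]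
  have r2 : cH (q * p) c = a * c := by rw [map_mul, Equiv.Perm.mul_apply, p2, q1]
  have f1 := hb.fx_one h2 (fx_up (S := QH a ⊓ St cH b ⊓ St cH c) (T := QH a ⊓ St cH c)
    (fun x hx y hy k1 k2 => ⟨⟨mul_mem hx.1 hy.1,
    idx h1 hx.1 hy.1 (fun m => k1 ⟨⟨hx.1, m⟩, hx.2⟩) fun m => k2 ⟨⟨hy.1, m⟩, hy.2⟩⟩, mul_mem hx.2 hy.2⟩) hξ
    ⟨hp, p2⟩ fun m => na (mul_eq_right.1 (p1.symm.trans m.1.2)))
  have f2 := hb.fx_one h1 (fx_up (S := QH a ⊓ St cH b ⊓ St cH c) (T := QH a ⊓ St cH b)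
    (fun x hx y hy k1 k2 => ⟨mul_mem hx hy,
    idx h2 hx.1 hy.1 (fun m => k1 ⟨hx, m⟩) fun m => k2 ⟨hy, m⟩⟩) hξ
    ⟨hq, q2⟩ fun m => na (mul_eq_right.1 (q1.symm.trans m.2)))
  have k0 : ∀ x ∈ St cH (b * c), cH x b = b → cH x c = c := fun x hx m => by
    rw [mem_St, GeoAux.cH_mul, m] at hx
    exact mul_left_cancel hx
  have f3 := hb.fx_one (adj_plane h1 h2 h3 e) (fx_up (S := QH a ⊓ St cH b ⊓ St cH c) 
    (T := QH a ⊓ St cH (b * c)) (fun x hx y hy k1 k2 => by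
      have := idx h1 hx.1 hy.1 (fun m => k1 ⟨⟨hx.1, m⟩, k0 x hx.2 m⟩) fun m => k2 ⟨⟨hy.1, m⟩, k0 y hy.2 m⟩
      exact ⟨⟨mul_mem hx.1 hy.1, this⟩, k0 _ (mul_mem hx.2 hy.2) this⟩) hξ (q := q * p)
    ⟨mul_mem hq hp, by
      change cH (q * p) (b * c) = b * c
      rw [GeoAux.cH_mul, r1, r2, ZH.comm h1.1.2.2, mul_assoc, ← mul_assoc a, sa, one_mul]⟩
    fun m => na (mul_eq_right.1 (r1.symm.trans m.1.2)))
  have f4 := f1 q hq
  rw [smul_add, ← mul_smul] at f4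
  have f5 := (f2.add f3).sub f1
  rw [show ξ + q • ξ + (ξ + (q * p) • ξ) - (ξ + p • ξ) = (2 : F) • ξ by
    rw [← f4, two_smul]; abel] at f5
  intro x hx
  have := f5 x hx
  rw [hb.comm] at this
  exact smul_right_injective V hb.two this

end Cfsg.Agent.B43
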