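import Mathlib
import Cfsg.Agent.B43.Defs

/-! The collinearity graph on `ZB` has no proper cover in which triangles lift. -/

set_option autoImplicit false

namespace Cfsg.Agent.B43

open Subgroup Matrix Cfsg.Agent.Spor Cfsg.Agent.Spor.Leech Cfsg.Agent.Gr Cfsg.Agent.Gr6B

namespace SCZAux

open Relation ZH

variable {Y : Type*} {π : Y → K} {A : Y → Y → Prop} (H : IsCov ZB adjZB (fun _ b c => adjZB b c) π A)
  {p q r r' : Y} {s x : K}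
include H

theorem lf (p : Y) (k : adjZ (π p) x) (hx : InQ x t0) : ∃ b, A p b ∧ π b = x := H.lift p x ⟨k, H.mem p, hx⟩

theorem tr (h1 : A p q) (h2 : A p r) (k : adjZ (π q) (π r)) : A q r := H.tri _ _ _ h1 h2 ⟨k, H.mem _, H.mem _⟩

theorem move (h1 : A p r) (h2 : A r q) (h3 : A p r') (k1 : adjZ (π r) (π r')) (k2 : adjZ (π r') (π q)) :
    A r' q := tr H (tr H h1 h3 k1) h2 k2

theorem injE (hs : s ∈ O1 t0) (hp : Gm t0 s (π p)) (h : Rs π A (Gm t0 s) p q) (e : π p = π q) : p = q := by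
  have ht := t0_mem
  let Z := {p : Y // Gm t0 s (π p)}
  let f : Z → K := fun p => t0 * s * π p.1
  let B : Z → Z → Prop := fun p q => adjR t0 s (f p) (f q) ∧ ∃ r : Z, A p.1 r.1 ∧ A r.1 q.1
  have fm : ∀ p : Z, f p ∈ RR t0 s := fun p => p.2.RR ht hs
  have cf : ∀ p : Z, t0 * s * f p = π p.1 := fun p => cancel ht hs _
  have ad : ∀ {p q : Z}, lm (f p) (f q) = 0 → adjZ (π p.1) (π q.1) := fun {p q} k =>
    cf p ▸ cf q ▸ adj_of_col ht hs (fm p) (fm q) k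
  have co : ∀ {p q : Z}, A p.1 q.1 → lm (f p) (f q) = 0 := fun {p q} k =>
    col_of_adj ht hs (fm p) (fm q) (by rw [cf, cf]; exact (H.map _ _ k).1)
  have li : ∀ (p : Z) d, d ∈ RR t0 s → lm (f p) d = 0 → ∃ r : Z, A p.1 r.1 ∧ f r = d := fun p d hd k => by
    obtain ⟨r, r1, r2⟩ := lf H p.1 (cf p ▸ adj_of_col ht hs (fm p) hd k) (Gm.of_RR ht hs hd).1
    exact ⟨⟨r, r2 ▸ .of_RR ht hs hd⟩, r1, by simp only [f, r2, cancel ht hs]⟩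
  have sy : ∀ p q, B p q → B q p := fun p q k => ⟨⟨k.1.2.1, k.1.1, O1_symm k.1.1.1.1 k.1.2.2⟩,
    let ⟨r, a, b⟩ := k.2; ⟨r, H.symm _ _ b, H.symm _ _ a⟩⟩
  have all : ∀ {p q r : Z}, B p q → A p.1 r.1 → lm (f q) (f r) = 0 → A r.1 q.1 := by
    rintro p q r ⟨k, m, m1, m2⟩ a b
    have b' := ad (lm_symm _ _ ▸ b)
    rcases F2 ht hs k.1 k.2.1 k.2.2 (fm m) (co m1) (co (H.symm _ _ m2)) (fm r) (co a) b with
      e | e | ⟨c, c1, c2, c3, c4, c5⟩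
    · rwa [← H.uniq _ _ _ m1 a (mul_left_cancel e)]
    · exact move H m1 m2 a (ad e) b'
    · obtain ⟨n, n1, rfl⟩ := li p c c1 c2
      exact move H n1 (move H m1 m2 n1 (ad c4) (ad (lm_symm _ _ ▸ c3))) a (ad c5) b'
  have st : ∀ p q : Z, A p.1 q.1 → ReflTransGen B p q := fun p q k => by
    have k0 := (H.map _ _ k).1
    obtain ⟨a1, a2⟩ := adj_mul k0
    obtain ⟨m, m1, m2⟩ := lf H _ a1 (inQ_line k0 ht p.2.1 q.2.1)
    have m3 := tr H k m1 (m2 ▸ a2)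
    let m' : Z := ⟨m, m2 ▸ inQ_line k0 ht p.2.1 q.2.1, m2 ▸ inQ_line k0 hs.1 p.2.2 q.2.2⟩
    obtain ⟨x, x1, x2, x3, x4⟩ := F4 ht hs (fm m') (fm p) (co (p := m') (H.symm _ _ m1))
    obtain ⟨n, n1, rfl⟩ := li m' x x1 x2
    rw [cf, m2, mul_assoc, ← mul_assoc (π p.1), sq p.2.1.mem, one_mul] at x4
    exact .tail (.single ⟨⟨fm _, x1, x3⟩, m', m1, n1⟩) (sy _ _ ⟨⟨fm _, x1, x4⟩, m', m3, n1⟩)
  have w : ∀ q (h : Rs π A (Gm t0 s) p q), ReflTransGen B ⟨p, hp⟩ ⟨q, h.mem hp⟩ := fun q h => by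
    induction h with
    | refl => exact .refl
    | tail _ k ih => exact ih.trans (st _ _ k.1)
  refine congrArg Subtype.val (comp_inj (π := f) (A := B) (scR ht hs) fm sy (fun _ _ k => k.1) (fun p x k => ?_)
    (fun p q r k1 k2 e => ?_) (fun p q r k1 k2 k => ?_) (w q h) (congrArg (t0 * s * ·) e))
  · obtain ⟨d, d1, d2, d3⟩ := F1 ht hs k.1 k.2.1 k.2.2
    obtain ⟨m, m1, rfl⟩ := li p d d1 d2
    obtain ⟨n, n1, rfl⟩ := li m x k.2.1 (lm_symm _ _ ▸ d3)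
    exact ⟨n, ⟨k, m, m1, n1⟩, rfl⟩
  · obtain ⟨m, m1, m2⟩ := k1.2
    exact Subtype.ext (H.uniq _ _ _ m2 (all k2 m1 (e ▸ co (H.symm _ _ m2))) (mul_left_cancel e))
  · obtain ⟨d, d1, d2, d3, d4⟩ := F3 ht hs (fm p) (fm q) (fm r) k1.1.2.2 k2.1.2.2 k.2.2
    obtain ⟨m, m1, rfl⟩ := li p d d1 d2
    exact ⟨k, m, H.symm _ _ (all k1 m1 d3), all k2 m1 d4⟩

end SCZAux

open SCZAux ZH

theorem scZB {Y : Type*} {p : Y → K} {A : Y → Y → Prop} (h : IsCov ZB adjZB (fun _ b c => adjZB b c) p A) :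
    Function.Injective p := fun x y e => by
  have ht := t0_mem
  have hp : InQ (p x) t0 := h.mem x
  obtain ⟨s, s1, s2⟩ := ex_O1 ht hp
  refine injE h s1 ⟨hp, s2⟩ (level h (scT ht) (Gm t0) (fun _ => True) (fun _ _ k => k.2.1) (fun _ _ k => k.symm ht)
    (fun s a b k1 k2 k => ⟨k, ?_⟩) (fun s hs p z a b => Rs.lift h
      (rtg_map id (fun _ _ k => ⟨⟨k.1, k.2.1.1, k.2.2.1⟩, k.2⟩) (connE ht hs a b)) rfl)
    (fun s a k => ⟨_, .of_RR ht k.1 k.2, (inQ_tri ht k.1 k.2).1, (inQ_tri ht k.1 k.2).2.2⟩)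
    (fun s a x y k h1 h2 h3 q => ?_) (fun z s hs s' hs' => c1B ht hs hs')
    (fun z z' k _ _ => c2B ht k.1 k.2.1 k.2.2) (rtg_map id (fun _ _ k => ⟨k, trivial, trivial⟩) (h.conn x y)) s1
    ⟨hp, s2⟩ (e ▸ ⟨hp, s2⟩)) e
  · obtain ⟨d, d1, d2, d3⟩ := F1 ht k1.1 k1.2 k2.2 k.2.2.1
    have g := Gm.of_RR ht k1.1 d1
    have : ∀ {a : K}, a ∈ Gr.RR t0 s → lm a d = 0 → InQ (t0 * s * d) a := fun ha k => by
      have := (g.1.mul g.2).mul (symm (adj_of_col ht k1.1 ha d1 k)).2.2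
      rwa [cancel ht k1.1] at this
    exact ⟨_, g, ⟨g.1, this k1.2 d2⟩, g.1, this k2.2 d3⟩
  · obtain ⟨a1, a2, a3⟩ := inQ_tri ht k.1 k.2
    have key : ∀ x, Gm t0 s (p x) → Gm t0 a (p x) → ∃ r, p r = t0 * s * a ∧ Rs p A (Gm t0 s) x r ∧
        Rs p A (Gm t0 a) x r := fun x h1 h2 => by
      by_cases e : t0 * s * a = p x
      · exact ⟨x, e.symm, .refl, .refl⟩
      obtain ⟨r, r1, r2⟩ := lf h x ⟨a1.mem, e, (h1.1.mul h1.2).mul h2.2⟩ a1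
      exact ⟨r, r2, .single ⟨r1, h1, r2 ▸ ⟨a1, a2⟩⟩, .single ⟨r1, h2, r2 ▸ ⟨a1, a3⟩⟩⟩
    obtain ⟨r, r1, r2, r3⟩ := key x h1 h2
    obtain ⟨r', r4, r5, r6⟩ := key y (q.mem h1) h3
    obtain rfl := injE h k.1 (r2.mem h1) (((r2.symm h).trans q).trans r5) (r1.trans r4.symm)
    exact r3.trans (r6.symm h)

end Cfsg.Agent.B43
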