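import Mathlib
import Cfsg.Agent.B43.Co2
import Cfsg.Agent.B43.SCZ
import Cfsg.Agent.B43.Fix
import Cfsg.Agent.B43.F1

/-! Every extension of `HH` by the 4371-dimensional module splits. -/

set_option autoImplicit false

namespace Cfsg.Agent.B43

open Subgroup Matrix Cfsg.Agent.Spor Cfsg.Agent.Spor.Leech Cfsg.Agent.Gr Cfsg.Agent.Gr6B

universe u

namespace TopAux

theorem mem_ker {g : CC} : g ∈ PP.sg.ker ↔ incl g ∈ QH zz := PP.sg_eq_one.trans (mem_QH_zz (x := incl g)).symm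

theorem ex_incl {g : HH} (h : cH g zz = zz) : ∃ c : CC, incl c = g :=
  ⟨⟨g, g.2, mem_centralizer_singleton.2 (mul_inv_eq_iff_eq_mul.1 h).symm⟩, rfl⟩

theorem incl_zz (g : CC) : cH (incl g) zz = zz := mul_inv_eq_iff_eq_mul.2 (mem_CC.1 g.2).2.symm

theorem zz_mem : zz ∈ ZB := adj_zz_zs.2.1

theorem ex_ker {g : HH} (h : g ∈ QH zz) : ∃ c ∈ PP.sg.ker, incl c = g :=
  let ⟨c, e⟩ := ex_incl (QH_le zz_mem h); ⟨c, mem_ker.2 (e ▸ h), e⟩

theorem two_ker : IsPGroup 2 PP.sg.ker :=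
  (IsPGroup.of_card card_QK).of_injective
    ((CC.subtype.comp PP.sg.ker.subtype).codRestrict QK fun g => PP.sg_eq_one.1 g.2) fun _ _ e =>
      Subtype.ext (Subtype.ext (congrArg (Subtype.val : QK → K) e))

theorem map_all : (⊤ : Subgroup CC).map incl = St cH zz :=
  le_antisymm (by rintro _ ⟨g, -, rfl⟩; exact incl_zz g) fun _ h => let ⟨c, e⟩ := ex_incl h; ⟨c, trivial, e⟩

theorem map_D : ((St cH zs).comap incl).map incl = St cH zz ⊓ St cH zs :=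
  le_antisymm (by rintro _ ⟨g, h, rfl⟩; exact ⟨incl_zz g, h⟩) fun _ h =>
    let ⟨c, e⟩ := ex_incl h.1; ⟨c, by rw [← e] at h; exact h.2, e⟩

end TopAux

open TopAux

theorem BM.splits {F V : Type*} [Field F] [AddCommGroup V] [Module F V] [DistribMulAction HH V] (hb : BM F V)
    (h3 : (3 : F) ≠ 0) : Splits.{u} V (⊤ : Subgroup HH) := by
  let _ : DistribMulAction CC V := DistribMulAction.compHom V incl
  have hφ : ∀ (g : CC) (v : V), g • v = incl g • v := fun _ _ => rfl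
  have hV := chr_module F V
  have d2 : Dv V 2 := hV 2 fun e => hb.two ((ringChar.spec F 2).2 e)
  obtain ⟨j, j1, j2, j3⟩ := hb.exists_j
  have fk : ∀ {ξ : V}, Fx PP.sg.ker ξ ↔ Fx (QH zz) ξ :=
    ⟨fun h x hx => let ⟨c, k, e⟩ := ex_ker hx; e ▸ h c k, fun h c k => h _ (mem_ker.1 k)⟩
  have co : CoH PP.sg j := ⟨PP.sg_v1, fun k hk => (PP.exists_sg_eq hk R4.v0_ne.1 (R4.cls_v1 ▸ R4.v0_ne.2.symm) 0 0).imp
    fun _ => And.left, two_ker, fun ξ h => j1 ξ (fk.1 h), fun g ξ h => j2 g ξ (fk.1 h), fun ξ h => j3 ξ (fk.1 h)⟩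
  obtain ⟨z1, z0⟩ := co.h1 hb.two hV (D := (St cH zs).comap incl) (fun g hg => sg_u0 (.inl hg))
    (fun k h1 h => ex_sg_u0 h1 h) fun ξ h => fk.2 (hb.fx_one adj_zz_zs fun x hx => by
      obtain ⟨c, k, rfl⟩ := ex_ker hx.1
      exact h c ⟨hx.2, k⟩)
  have off : ∀ ξ : V, Fx (QH zz) ξ → Fx (QH zs) ξ → ∀ i ∉ T2, j ξ i = 0 := fun ξ a b =>
    fix_RT hb.two (by decide) fun r hr => by
      obtain ⟨g, hg, rfl⟩ := ex_sign hr
      rw [← j2 g ξ a, b _ hg]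
  have zero : ∀ z, adjZB zz z → adjZB zs z → ∀ a : V, Fx (St cH zz ⊓ St cH zs ⊓ St cH z) a → a = 0 := by
    intro z h1 h2 a ha
    by_cases e : z = zz * zs
    · refine z0 a fun g hg => ha _ ⟨⟨incl_zz g, hg⟩, mem_St.2 ?_⟩
      rw [cH_apply, e, conj_mul', ← cH_apply, ← cH_apply, incl_zz, mem_St.1 hg]
    have b1 : Fx (QH zz) a := hb.fx_two adj_zz_zs h1 h2 (ha.mono fun x hx => ⟨⟨QH_le zz_mem hx.1.1, hx.1.2⟩, hx.2⟩)
    have b2 : Fx (QH zs) a := hb.fx_two adj_zz_zs.symm h2 h1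
      (ha.mono fun x hx => ⟨⟨hx.1.2, QH_le adj_zz_zs.2.2 hx.1.1⟩, hx.2⟩)
    have b3 : Fx (QH z) a := hb.fx_two h1.symm h2.symm adj_zz_zs
      (ha.mono fun x hx => ⟨⟨hx.1.2, hx.2⟩, QH_le h1.2.2 hx.1.1⟩)
    obtain ⟨g, rfl⟩ := trZ h1
    have c1 : Fx (QH zz) ((incl g)⁻¹ • a) := fun x hx => by
      rw [← mul_smul, show x * (incl g)⁻¹ = (incl g)⁻¹ * (incl g * x * (incl g)⁻¹) by group, mul_smul,
        b1 _ (incl_zz g ▸ (QH_cj _ _).2 hx)]
    have c2 : Fx (QH zs) ((incl g)⁻¹ • a) := fun x hx => by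
      rw [← mul_smul, show x * (incl g)⁻¹ = (incl g)⁻¹ * (incl g * x * (incl g)⁻¹) by group, mul_smul,
        b3 _ ((QH_cj _ _).2 hx)]
    have n := fun q => (of_sg_u0 q).elim h2.1.2.1 e
    have := two_cross hb.two h3 (PP.sg_v1 g) (fun q => n (.inl q)) (fun q => n (.inr q)) (off _ c1 c2) (j3 _ c1)
      (by rw [← j2 g _ c1, smul_inv_smul]; exact off a b1 b2)
    exact (smul_eq_zero_iff_eq _).1 (j1 _ c1 this)
  refine splits_graph cH ZB adjZB zz zs scZB cH_mem (fun g _ _ h => h.cj g) adj_zz_zs connZ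
    (fun y h => let ⟨g, e⟩ := trZ h; ⟨incl g, incl_zz g, e⟩)
    ((triZ adj_zz_zs adj_zz_zs.mul.1 adj_zz_zs.mul.2).imp fun _ h => ⟨h.1, h.2.1⟩) (fun z h1 h2 => ?_) d2
    (map_all ▸ (co.splits hb.two h3 hV).map incl hφ d2 fun g e => ?_) (map_D ▸ z1.map incl hφ)
  · obtain ⟨t, t1, t2, t3⟩ := triZ h2 adj_zz_zs.symm h1.symm
    obtain ⟨s, hs⟩ := triZ adj_zz_zs h1 h2
    exact ⟨t, s, ⟨t3, t1, t2⟩, hs, fun a ha _ => by rw [zero z h1 h2 a ha, smul_zero]⟩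
  · rw [show g = 1 from Subtype.ext (congrArg (Subtype.val : HH → K) e), mul_one]

theorem splits_quot {F V B : Type*} [Field F] [AddCommGroup V] [Module F V] [Group B] [DistribMulAction B V]
    (θ : HH →* B) (hs : Function.Surjective θ) (hk : ∀ g, θ g = 1 ↔ (g : K) = 1 ∨ (g : K) = t0) (h2 : (2 : F) ≠ 0)
    (h3 : (3 : F) ≠ 0) (hc : ∀ (g : B) (a : F) (v : V), g • a • v = a • g • v) (hd : Module.finrank F V = 4371)
    (hf : ∀ g : B, (∀ v : V, g • v = v) → g = 1) : Splits.{u} V (⊤ : Subgroup B) := by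
  let _ : DistribMulAction HH V := DistribMulAction.compHom V θ
  have hθ : ∀ (g : HH) (v : V), g • v = θ g • v := fun _ _ => rfl
  have hb : BM F V := ⟨h2, fun g => hc (θ g), hd, fun g =>
    Iff.trans ⟨hf (θ g), fun h v => by rw [hθ, h, one_smul]⟩ (hk g)⟩
  rw [← map_top_of_surjective θ hs]
  refine (hb.splits h3).map θ hθ (chr_module F _ 2 fun q => h2 ((ringChar.spec F 2).2 q)) fun g q => Subtype.ext ?_
  rcases (hk g).1 q with r | r <;> rw [coe_mul, r]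
  exacts [mul_one _, DD_mul_self t0_mem]

end Cfsg.Agent.B43
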